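import Groth.Agent.H14Artin.SectEtale

/-!
# Schemes of sections inside the category of schemes over a base
-/

set_option autoImplicit false
set_option backward.isDefEq.respectTransparency false
set_option backward.isDefEq.respectTransparency.types false
set_option linter.style.haveILetI false
universe u

open CategoryTheory CategoryTheory.Limits AlgebraicGeometry Opposite

namespace Groth.Agent.H14Artin

variable {S : Scheme.{u}} {Z W P : Over S} (ρ : Z ⟶ W) (q : P ⟶ Z)

/-- A scheme over `S` classifying sections of `q` over the pullbacks of `ρ`. -/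
structure OverSect where
  /-- the scheme of sections -/
  R : Over S
  /-- its structure map -/
  r : R ⟶ W
  /-- the universal section -/
  σ : pullback r ρ ⟶ P
  σ_q : σ ≫ q = pullback.snd r ρ
  univ : ∀ {T : Over S} (a : T ⟶ W) (s : pullback a ρ ⟶ P), s ≫ q = pullback.snd a ρ →
    ∃! h : T ⟶ R, ∃ e : h ≫ r = a,
      pullback.map a ρ r ρ h (𝟙 Z) (𝟙 W) (by rw [Category.comp_id, e]) (by simp) ≫ σ = s

/-- The comparison of the pullback of schemes over `S` with that of schemes. -/
noncomputable def leftIso {A B C : Over S} (f : A ⟶ C) (g : B ⟶ C) :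
    (pullback f g).left ≅ pullback f.left g.left :=
  ((IsPullback.of_hasPullback f g).map (Over.forget S)).isoPullback

@[reassoc (attr := simp)]
theorem leftIso_hom_fst {A B C : Over S} (f : A ⟶ C) (g : B ⟶ C) :
    (leftIso f g).hom ≫ pullback.fst _ _ = (pullback.fst f g).left := IsPullback.isoPullback_hom_fst _

@[reassoc (attr := simp)]
theorem leftIso_hom_snd {A B C : Over S} (f : A ⟶ C) (g : B ⟶ C) :
    (leftIso f g).hom ≫ pullback.snd _ _ = (pullback.snd f g).left := IsPullback.isoPullback_hom_snd _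

/-- A scheme of sections gives one over `S`. -/
noncomputable def OverSect.ofRep (Φ : SectRep ρ.left q.left) : OverSect ρ q where
  R := Over.mk (Φ.r ≫ W.hom)
  r := Over.homMk Φ.r rfl
  σ := Over.homMk ((leftIso _ ρ).hom ≫ Φ.σ) (by
    rw [Category.assoc, ← Over.w q, reassoc_of% Φ.σ_q]
    exact (leftIso_hom_snd_assoc _ ρ _).trans (Over.w (pullback.snd _ ρ)))
  σ_q := Over.OverMorphism.ext (by
    simp only [Over.comp_left, Over.homMk_left, Category.assoc, Φ.σ_q]
    exact leftIso_hom_snd _ ρ)
  univ := fun {T} a s hs => by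
    have hs' : ((leftIso a ρ).inv ≫ s.left) ≫ q.left = pullback.snd a.left ρ.left := by
      rw [Category.assoc, ← Over.comp_left, hs, Iso.inv_comp_eq, leftIso_hom_snd]
    let r₀ : Over.mk (Φ.r ≫ W.hom) ⟶ W := Over.homMk Φ.r rfl
    have key : ∀ (h : T ⟶ Over.mk (Φ.r ≫ W.hom)) (e : h ≫ r₀ = a),
        (pullback.map a ρ r₀ ρ h (𝟙 Z) (𝟙 W) (by rw [Category.comp_id, e]) (by simp)).left ≫
            (leftIso r₀ ρ).hom =
          (leftIso a ρ).hom ≫ Φ.mapTo (c := a.left) h.left (congrArg (fun t => t.left) e) := by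
      intro h e
      apply pullback.hom_ext
      · simp only [Category.assoc, leftIso_hom_fst, ← Over.comp_left, pullback.lift_fst]
        rw [Over.comp_left, ← leftIso_hom_fst_assoc a ρ]
        exact congrArg ((leftIso a ρ).hom ≫ ·) (Φ.mapTo_fst h.left _).symm
      · simp only [Category.assoc, leftIso_hom_snd, ← Over.comp_left, pullback.lift_snd, Category.comp_id]
        rw [← leftIso_hom_snd a ρ]
        exact congrArg ((leftIso a ρ).hom ≫ ·) (Φ.mapTo_snd h.left _).symm
    let h₀ : T ⟶ Over.mk (Φ.r ≫ W.hom) := Over.homMk (Φ.pt a.left _ hs') (by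
      show Φ.pt a.left _ hs' ≫ Φ.r ≫ W.hom = T.hom
      rw [← Category.assoc, Φ.pt_r, Over.w a])
    have he₀ : h₀ ≫ r₀ = a := Over.OverMorphism.ext (Φ.pt_r a.left _ hs')
    refine ⟨h₀, ⟨he₀, Over.OverMorphism.ext ?_⟩, fun h ⟨e, hh⟩ => Over.OverMorphism.ext ?_⟩
    · simp only [Over.comp_left, Over.homMk_left]
      refine (reassoc_of% key h₀ he₀) Φ.σ |>.trans ?_
      exact (congrArg ((leftIso a ρ).hom ≫ ·) (Φ.pt_σ a.left _ hs')).trans (Iso.hom_inv_id_assoc _ _)
    · refine Φ.hom_ext (c := a.left) (congrArg (fun t => t.left) e) (Φ.pt_r a.left _ hs') ?_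
      refine Eq.trans ?_ (Φ.pt_σ a.left _ hs').symm
      rw [← cancel_epi (leftIso a ρ).hom, Iso.hom_inv_id_assoc, ← hh]
      simp only [Over.comp_left, Over.homMk_left]
      exact ((reassoc_of% key h e) Φ.σ).symm

variable [IsFinite ρ.left] [Flat ρ.left] [LocallyOfFinitePresentation ρ.left]

/-- Sections of a separated etale morphism form an etale scheme, surjective if the morphism is. -/
theorem exists_overSect_etale [Etale q.left] [IsSeparated q.left] :
    ∃ Φ : OverSect ρ q, Etale Φ.r.left ∧ (Surjective q.left → Surjective Φ.r.left) := by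
  haveI := SectRep.lqf_of_etale q.left
  obtain ⟨Φ⟩ := nonempty_sectRep_lqf ρ.left q.left
  exact ⟨.ofRep ρ q Φ, Φ.etale_r, fun h => haveI := h; Φ.surjective_r⟩

end Groth.Agent.H14Artin
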