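import Groth.Agent.H13AlgSp.Cover
import Groth.Agent.H13AlgSp.Refinement
import Groth.Prelude.Def_AlgSp

/-!
# The sheaf of sections of a sheaf along a morphism of schemes
-/

set_option autoImplicit false
set_option backward.isDefEq.respectTransparency false
set_option backward.isDefEq.respectTransparency.types false
set_option linter.style.haveILetI false
set_option maxHeartbeats 1000000
universe u

open CategoryTheory CategoryTheory.Limits AlgebraicGeometry Opposite
open AlgSp Groth.Agent.H13AlgSp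

namespace Groth.Agent.H14Artin

variable {S : Scheme.{u}} {Z W : Over S} (ρ : Z ⟶ W) {Y : Sp S} (p : Y ⟶ (yon S).obj Z)

/-- A section over the pullback of `ρ` to a test scheme. -/
structure ResPt (T : Over S) where
  /-- the point of the base -/
  a : T ⟶ W
  /-- the section -/
  z : (yon S).obj (pullback a ρ) ⟶ Y
  hz : z ≫ p = (yon S).map (pullback.snd a ρ)

namespace ResPt

variable {ρ p} {T T' T'' : Over S}

/-- The map of pullbacks of an equality of points. -/
noncomputable abbrev cg {a b : T ⟶ W} (e : a = b) : pullback a ρ ⟶ pullback b ρ :=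
  pullback.map a ρ b ρ (𝟙 T) (𝟙 Z) (𝟙 W) (by rw [Category.comp_id, Category.id_comp, e])
    (by rw [Category.comp_id, Category.id_comp])

theorem cg_rfl (a : T ⟶ W) : cg (ρ := ρ) (rfl : a = a) = 𝟙 _ := by
  apply pullback.hom_ext <;> simp

theorem ext' {x y : ResPt ρ p T} (e : x.a = y.a)
    (h : x.z = (yon S).map (cg e) ≫ y.z) : x = y := by
  obtain ⟨a, z, hz⟩ := x
  obtain ⟨b, z', hz'⟩ := y
  change a = b at e
  subst e
  change z = (yon S).map (cg (ρ := ρ) (rfl : a = a)) ≫ z' at h
  rw [cg_rfl, CategoryTheory.Functor.map_id, Category.id_comp] at h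
  subst h
  rfl

/-- The map of pullbacks along a map of test schemes. -/
noncomputable abbrev coverMap (h : T' ⟶ T) (a : T ⟶ W) : pullback (h ≫ a) ρ ⟶ pullback a ρ :=
  pullback.map (h ≫ a) ρ a ρ h (𝟙 Z) (𝟙 W) (Category.comp_id _) (by simp)

/-- Restriction of sections. -/
noncomputable def map (x : ResPt ρ p T) (h : T' ⟶ T) : ResPt ρ p T' where
  a := h ≫ x.a
  z := (yon S).map (coverMap h x.a) ≫ x.z
  hz := by rw [Category.assoc, x.hz, ← Functor.map_comp]; simp

theorem map_id (x : ResPt ρ p T) : x.map (𝟙 T) = x := by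
  refine ext' (Category.id_comp _) ?_
  show (yon S).map _ ≫ x.z = (yon S).map _ ≫ x.z
  congr 2
  all_goals (apply pullback.hom_ext <;> simp)

theorem map_comp (x : ResPt ρ p T) (h : T' ⟶ T) (h' : T'' ⟶ T') :
    x.map (h' ≫ h) = (x.map h).map h' := by
  refine ext' (Category.assoc _ _ _) ?_
  show (yon S).map _ ≫ x.z = (yon S).map _ ≫ (yon S).map _ ≫ (yon S).map _ ≫ x.z
  simp only [← Functor.map_comp_assoc]
  congr 2
  apply pullback.hom_ext <;> simp [cg, coverMap, map, pullback.map]

end ResPt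

/-- The presheaf of sections. -/
noncomputable def resPsh : (Over S)ᵒᵖ ⥤ Type (u + 1) where
  obj T := ResPt ρ p T.unop
  map h := ↾fun x => x.map h.unop
  map_id T := by ext x; exact x.map_id
  map_comp f g := by ext x; exact x.map_comp f.unop g.unop

/-- The presheaf of sections is a sheaf. -/
theorem isSheaf_resPsh : Presheaf.IsSheaf (J S) (resPsh ρ p) := by
  rw [isSheaf_iff_isSheaf_of_type]
  intro T R hR x hx
  obtain ⟨κ, C, c, hfl, hfp, hs, hcR⟩ := exists_cover_of_mem_J hR
  have hJ := ofArrows_mem_J c hfl hfp hs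
  let xi : ∀ i, ResPt ρ p (C i) := fun i => x (c i) (hcR i)
  have hcomp : ∀ (i j : κ) (V : Over S) (u : V ⟶ C i) (v : V ⟶ C j), u ≫ c i = v ≫ c j →
      (xi i).map u = (xi j).map v := fun i j V u v e => hx u v (hcR i) (hcR j) e
  -- the point of the base
  obtain ⟨a', ha', -⟩ := (Presieve.isSheafFor_arrows_iff _ _).1
    ((Presieve.isSheafFor_iff_generate _).2
      (((isSheaf_iff_isSheaf_of_type _ _).1 ((yon S).obj W).property) _ hJ))
    (fun i => ULift.up (xi i).a) (fun i j V u v e => congrArg ULift.up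
      (congrArg ResPt.a (hcomp i j V u v e)))
  let a : T ⟶ W := a'.down
  have ha : ∀ i, c i ≫ a = (xi i).a := fun i => congrArg ULift.down (ha' i)
  -- the section
  let D : κ → Over S := fun i => pullback (c i ≫ a) ρ
  let d : ∀ i, D i ⟶ pullback a ρ := fun i => ResPt.coverMap (c i) a
  have sqd : ∀ i, IsPullback (d i) (pullback.fst _ _) (pullback.fst a ρ) (c i) := fun i =>
    IsPullback.of_right (by simpa [d] using (IsPullback.of_hasPullback (c i ≫ a) ρ).flip)
      (by simp [d]) (IsPullback.of_hasPullback a ρ).flip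
  have sqdl : ∀ i, IsPullback (d i).left (pullback.fst (c i ≫ a) ρ).left (pullback.fst a ρ).left (c i).left :=
    fun i => (sqd i).map (Over.forget S)
  have hdJ : Sieve.ofArrows D d ∈ J S (pullback a ρ) :=
    ofArrows_mem_J d (fun i => MorphismProperty.of_isPullback (sqdl i).flip (hfl i))
      (fun i => MorphismProperty.of_isPullback (sqdl i).flip (hfp i)) fun w => by
      obtain ⟨i, t, ht⟩ := hs ((pullback.fst a ρ).left w)
      obtain ⟨z, hz, -⟩ := Scheme.exists_preimage_of_isPullback (sqdl i) w t ht.symm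
      exact ⟨i, z, hz⟩
  let zi : ∀ i, (yon S).obj (D i) ⟶ Y := fun i =>
    (yon S).map (ResPt.cg (ha i)) ≫ (xi i).z
  have hzc : ∀ (i j : κ) (V : Over S) (u : V ⟶ D i) (v : V ⟶ D j), u ≫ d i = v ≫ d j →
      (yon S).map u ≫ zi i = (yon S).map v ≫ zi j := by
    intro i j V u v e
    let u' : V ⟶ C i := u ≫ pullback.fst _ _
    let v' : V ⟶ C j := v ≫ pullback.fst _ _
    have euv : u' ≫ c i = v' ≫ c j := by
      have := congrArg (· ≫ pullback.fst a ρ) e
      simpa [d, u', v'] using this
    have e2 : u ≫ pullback.snd _ _ = v ≫ pullback.snd _ _ := by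
      have := congrArg (· ≫ pullback.snd a ρ) e
      simpa [d] using this
    have h := hcomp i j V u' v' euv
    have hw : 𝟙 V ≫ u' ≫ (xi i).a = (u ≫ pullback.snd _ _) ≫ ρ := by
      simp [u', ← ha i, pullback.condition]
    let s : V ⟶ pullback (u' ≫ (xi i).a) ρ := pullback.lift (𝟙 V) (u ≫ pullback.snd _ _) hw
    have hu : u ≫ (ResPt.cg (ha i)) = s ≫ ResPt.coverMap u' (xi i).a := by
      apply pullback.hom_ext <;> simp [s, u', ResPt.cg, ResPt.coverMap, ResPt.map, pullback.map]
      all_goals exact (Category.id_comp _).symm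
    have hv : v ≫ (ResPt.cg (ha j)) =
        s ≫ (ResPt.cg (congrArg ResPt.a h)) ≫ ResPt.coverMap v' (xi j).a := by
      apply pullback.hom_ext
      · simp [s, v', ResPt.cg, ResPt.coverMap, ResPt.map, pullback.map]
        exact (Category.id_comp _).symm
      · simpa [s, ResPt.cg, ResPt.coverMap, ResPt.map, pullback.map] using e2.symm
    have hz' : ((xi i).map u').z =
        (yon S).map (ResPt.cg (congrArg ResPt.a h)) ≫ ((xi j).map v').z := by
      have key : ∀ {x y : ResPt ρ p V} (e : x = y),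
          x.z = (yon S).map (ResPt.cg (congrArg ResPt.a e)) ≫ y.z := by
        rintro x _ rfl
        rw [ResPt.cg_rfl, CategoryTheory.Functor.map_id, Category.id_comp]
      exact key h
    simp only [zi, ← Functor.map_comp_assoc, hu, hv]
    simp only [Functor.map_comp, Category.assoc]
    exact congrArg ((yon S).map s ≫ ·) hz'
  obtain ⟨z', hz', -⟩ := (Presieve.isSheafFor_arrows_iff _ _).1
    ((Presieve.isSheafFor_iff_generate _).2 (((isSheaf_iff_isSheaf_of_type _ _).1 Y.property) _ hdJ))
    (fun i => (J S).uliftYonedaEquiv.{u + 1} (zi i)) (fun i j V u v e => by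
      rw [GrothendieckTopology.uliftYonedaEquiv_naturality, GrothendieckTopology.uliftYonedaEquiv_naturality]
      exact congrArg (J S).uliftYonedaEquiv (hzc i j V u v e))
  obtain ⟨z, hzdef⟩ : ∃ z : (yon S).obj (pullback a ρ) ⟶ Y, z = (J S).uliftYonedaEquiv.{u + 1}.symm z' :=
    ⟨_, rfl⟩
  have hzi : ∀ i, (yon S).map (d i) ≫ z = zi i := fun i => by
    apply (J S).uliftYonedaEquiv.injective
    rw [← hz' i, hzdef, ← GrothendieckTopology.uliftYonedaEquiv_naturality, Equiv.apply_symm_apply]
  have hzp : z ≫ p = (yon S).map (pullback.snd a ρ) := hom_ext_of_cover d hdJ fun i => by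
    rw [reassoc_of% (hzi i)]
    simp only [zi, Category.assoc, (xi i).hz, ← Functor.map_comp]
    simp [d, ResPt.cg, ResPt.coverMap]
  have hX : ∀ i, (⟨a, z, hzp⟩ : ResPt ρ p T).map (c i) = xi i := fun i =>
    ResPt.ext' (ha i) (hzi i)
  have hsep : ∀ {V : Over S} {x₁ x₂ : ResPt ρ p V} {μ : Type u} (E : μ → Over S) (e : ∀ i, E i ⟶ V),
      (∀ i, Flat (e i).left) → (∀ i, LocallyOfFinitePresentation (e i).left) →
      (∀ t : V.left, ∃ i, t ∈ Set.range (e i).left) → (∀ i, x₁.map (e i) = x₂.map (e i)) → x₁ = x₂ := by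
    intro V x₁ x₂ μ E e he1 he2 he3 hx12
    have hea : x₁.a = x₂.a := by
      refine (yon S).map_injective (hom_ext_of_cover e (ofArrows_mem_J e he1 he2 he3) fun i => ?_)
      rw [← Functor.map_comp, ← Functor.map_comp]
      exact congrArg (yon S).map (congrArg ResPt.a (hx12 i))
    obtain ⟨a₁, z₁, hz₁⟩ := x₁
    obtain ⟨a₂, z₂, hz₂⟩ := x₂
    change a₁ = a₂ at hea
    subst hea
    suffices z₁ = z₂ by subst this; rfl
    let E' : μ → Over S := fun i => pullback (e i ≫ a₁) ρ
    let e' : ∀ i, E' i ⟶ pullback a₁ ρ := fun i => ResPt.coverMap (e i) a₁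
    have sqe : ∀ i, IsPullback (e' i).left (pullback.fst (e i ≫ a₁) ρ).left (pullback.fst a₁ ρ).left
        (e i).left := fun i =>
      (IsPullback.of_right (by simpa [e'] using (IsPullback.of_hasPullback (e i ≫ a₁) ρ).flip)
        (by simp [e']) (IsPullback.of_hasPullback a₁ ρ).flip).map (Over.forget S)
    refine hom_ext_of_cover e' (ofArrows_mem_J e'
      (fun i => MorphismProperty.of_isPullback (sqe i).flip (he1 i))
      (fun i => MorphismProperty.of_isPullback (sqe i).flip (he2 i)) fun w => ?_) fun i => ?_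
    · obtain ⟨i, t, ht⟩ := he3 ((pullback.fst a₁ ρ).left w)
      obtain ⟨z, hz, -⟩ := Scheme.exists_preimage_of_isPullback (sqe i) w t ht.symm
      exact ⟨i, z, hz⟩
    · have hxi : (⟨e i ≫ a₁, (yon S).map (e' i) ≫ z₁, _⟩ : ResPt ρ p (E i)) =
          ⟨e i ≫ a₁, (yon S).map (e' i) ≫ z₂, _⟩ := hx12 i
      exact eq_of_heq (ResPt.mk.inj hxi).2
  refine ⟨⟨a, z, hzp⟩, fun V f hf => ?_, fun y hy => hsep C c hfl hfp hs fun i =>
    (hy (c i) (hcR i)).trans (hX i).symm⟩
  obtain ⟨μ, E, e, he1, he2, he3, heR⟩ :=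
    exists_cover_of_mem_J ((J S).pullback_stable f hJ)
  refine hsep E e he1 he2 he3 fun k => ?_
  obtain ⟨_, l, _, ⟨i⟩, hl⟩ := heR k
  change ((⟨a, z, hzp⟩ : ResPt ρ p T).map f).map (e k) = (x f hf).map (e k)
  rw [← ResPt.map_comp, ← hl, ResPt.map_comp, hX i]
  exact hx l (e k) (hcR i) hf hl

/-- The sheaf of sections. -/
noncomputable def resSp : Sp S := ⟨resPsh ρ p, isSheaf_resPsh ρ p⟩

/-- Points of the sheaf of sections. -/
noncomputable def resEquiv {T : Over S} : ((yon S).obj T ⟶ resSp ρ p) ≃ ResPt ρ p T :=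
  (J S).uliftYonedaEquiv

theorem resEquiv_comp {T T' : Over S} (x : (yon S).obj T ⟶ resSp ρ p) (h : T' ⟶ T) :
    resEquiv ρ p ((yon S).map h ≫ x) = (resEquiv ρ p x).map h :=
  ((J S).uliftYonedaEquiv_naturality x h).symm

/-- The map to the base. -/
noncomputable def resToBase : resSp ρ p ⟶ (yon S).obj W :=
  ObjectProperty.homMk
    { app := fun T => ↾fun (x : ResPt ρ p T.unop) => ULift.up x.a
      naturality := fun T T' h => by ext x; rfl }

theorem comp_resToBase {T : Over S} (x : (yon S).obj T ⟶ resSp ρ p) :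
    x ≫ resToBase ρ p = (yon S).map (resEquiv ρ p x).a := by
  apply (J S).uliftYonedaEquiv.injective
  rw [GrothendieckTopology.uliftYonedaEquiv_comp, GrothendieckTopology.uliftYonedaEquiv_uliftYoneda_map]
  rfl

end Groth.Agent.H14Artin
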