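import Groth.Agent.H14Artin.ResSpace
import Groth.Agent.H12AlgSp.HilbQuot

/-!
# The atlas of the sheaf of sections
-/

set_option autoImplicit false
set_option backward.isDefEq.respectTransparency false
set_option backward.isDefEq.respectTransparency.types false
set_option linter.style.haveILetI false
universe u

open CategoryTheory CategoryTheory.Limits AlgebraicGeometry Opposite
open AlgSp Groth.Agent.H13AlgSp Groth.Agent.H12AlgSp

namespace Groth.Agent.H14Artin

variable {S : Scheme.{u}}

/-- Every scheme has an etale cover by a separated scheme in which finite sets lie in affine opens. -/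
theorem exists_affine_sigma (U : Over S) :
    ∃ (P : Over S) (d₀ : P ⟶ U), Etale d₀.left ∧ Surjective d₀.left ∧ P.left.IsSeparated ∧
      ∀ F : Set P.left, F.Finite → ∃ O : P.left.Opens, IsAffineOpen O ∧ F ⊆ O := by
  let K := U.left.affineOpens
  let X : K → Scheme.{u} := fun i => (i.1 : Scheme.{u})
  haveI hX : ∀ i, IsAffine (X i) := fun i => i.2
  let d : ∐ X ⟶ U.left := Sigma.desc fun i => i.1.ι
  let P : Over S := Over.mk (d ≫ U.hom)
  refine ⟨P, Over.homMk d rfl, ?_, ?_, ?_, ?_⟩
  · exact IsZariskiLocalAtSource.sigmaDesc (P := @Etale) fun i => inferInstance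
  · refine ⟨fun x => ?_⟩
    obtain ⟨_, ⟨O, hO : IsAffineOpen O, rfl⟩, hx, -⟩ :=
      U.left.isBasis_affineOpens.exists_subset_of_mem_open (show x ∈ (⊤ : U.left.Opens) from trivial) isOpen_univ
    refine ⟨Sigma.ι X ⟨O, hO⟩ ⟨x, hx⟩, ?_⟩
    show (Sigma.ι X ⟨O, hO⟩ ≫ d) ⟨x, hx⟩ = x
    rw [Sigma.ι_desc]
    rfl
  · haveI : ∀ i, IsSeparated (terminal.from (X i)) := fun i => inferInstance
    refine ⟨?_⟩
    rw [show terminal.from P.left = Sigma.desc (fun i => terminal.from (X i)) from terminal.hom_ext _ _]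
    exact isSeparated_sigmaDesc _ fun i => inferInstance
  · intro F hF
    have hc : ∀ x : ↥(∐ X), ∃ i, x ∈ (Sigma.ι X i).opensRange := fun x => by
      obtain ⟨i, y, hy⟩ := (sigmaOpenCover X).exists_eq x
      exact ⟨i, y, hy⟩
    choose c hc using hc
    let J' := (c '' F)
    haveI : Finite J' := (hF.image c).to_subtype
    refine ⟨(⨆ j : J', (Sigma.ι X j.1).opensRange), IsAffineOpen.iSup_of_disjoint
      (fun j => ?_) (fun i j hij => ?_), fun x hx => TopologicalSpace.Opens.mem_iSup.2 ⟨⟨c x, x, hx, rfl⟩, hc x⟩⟩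
    · exact isAffineOpen_opensRange (Sigma.ι X j.1)
    · exact disjoint_opensRange_sigmaι X i.1 j.1 fun h => hij (Subtype.ext h)

variable {Z W : Over S} (ρ : Z ⟶ W) [IsFinite ρ.left] [Flat ρ.left] [LocallyOfFinitePresentation ρ.left]

/-- Sections of a morphism from a scheme with affine finite sets are representable. -/
theorem nonempty_overSect {P : Over S} (q : P ⟶ Z)
    (hP : ∀ F : Set P.left, F.Finite → ∃ O : P.left.Opens, IsAffineOpen O ∧ F ⊆ O) :
    Nonempty (OverSect ρ q) := by
  obtain ⟨Φ⟩ := nonempty_sectRep ρ.left q.left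
    (H8Props.WeilRes.isRepresentable_morS_of_AF ρ.left (q.left ≫ ρ.left) fun s d x hx => by
      obtain ⟨O, hO, hsub⟩ := hP (Set.range x) (Set.finite_range x)
      exact ⟨O, hO, fun k => hsub ⟨k, rfl⟩⟩)
  exact ⟨.ofRep ρ q Φ⟩

/-- Sections of an algebraic space along a finite locally free morphism form an algebraic space. -/
theorem isAlgSpace_resSp {Y : Sp S} (hY : IsAlgSpace Y) (p : Y ⟶ (yon S).obj Z) :
    IsAlgSpace (resSp ρ p) := by
  obtain ⟨U, a, ha, has⟩ := hY.atlas
  obtain ⟨P, d₀, h1, h2, h3, h4⟩ := exists_affine_sigma U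
  let d := (yon S).map d₀ ≫ a
  obtain ⟨q, hq⟩ := (yon S).map_surjective (d ≫ p)
  obtain ⟨Φ⟩ := nonempty_overSect ρ q h4
  haveI := h3
  have hd : RepWith @Etale d := H12AlgSp.repWith_comp ((repWith_yon_map_iff @Etale d₀).2 h1) ha
  have hds : RepWith @Surjective d := H12AlgSp.repWith_comp ((repWith_yon_map_iff @Surjective d₀).2 h2) has
  obtain ⟨he, hs⟩ := repWith_chartMap ρ p hq Φ hd
  exact isAlgSpace_of_repWith_etale_surjective (IsAlgSpace.yon_obj Φ.R) _ he (hs hds)

end Groth.Agent.H14Artin
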