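import Groth.Agent.H14Artin.OverSect
import Groth.Agent.H14Artin.Res
import Groth.Agent.H12AlgSp.HilbChart
import Groth.Agent.H12AlgSp.Bootstrap

/-!
# Sections of an algebraic space along a finite locally free morphism form an algebraic space
-/

set_option autoImplicit false
set_option backward.isDefEq.respectTransparency false
set_option backward.isDefEq.respectTransparency.types false
set_option linter.style.haveILetI false
set_option maxHeartbeats 1000000
universe u

open CategoryTheory CategoryTheory.Limits AlgebraicGeometry Opposite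
open AlgSp Groth.Agent.H13AlgSp Groth.Agent.H12AlgSp

namespace Groth.Agent.H14Artin

variable {S : Scheme.{u}} {Z W : Over S} (ρ : Z ⟶ W) {Y : Sp S} (p : Y ⟶ (yon S).obj Z)
  {P : Over S} {d : (yon S).obj P ⟶ Y} {q : P ⟶ Z} (hq : (yon S).map q = d ≫ p) (Φ : OverSect ρ q)

/-- The map from a scheme of sections of a chart. -/
noncomputable def chartMap : (yon S).obj Φ.R ⟶ resSp ρ p :=
  (resEquiv ρ p).symm ⟨Φ.r, (yon S).map Φ.σ ≫ d, by
    rw [Category.assoc, ← hq, ← Functor.map_comp, Φ.σ_q]⟩

theorem resEquiv_chartMap {T : Over S} (h : T ⟶ Φ.R) :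
    resEquiv ρ p ((yon S).map h ≫ chartMap ρ p hq Φ) =
      (⟨Φ.r, (yon S).map Φ.σ ≫ d, by rw [Category.assoc, ← hq, ← Functor.map_comp, Φ.σ_q]⟩ :
        ResPt ρ p Φ.R).map h := by
  rw [resEquiv_comp, chartMap, Equiv.apply_symm_apply]

variable [IsFinite ρ.left] [Flat ρ.left] [LocallyOfFinitePresentation ρ.left]

/-- The map from the scheme of sections of a separated etale chart is etale, and surjective if the
chart is. -/
theorem repWith_chartMap (hd : RepWith @Etale d) [P.left.IsSeparated] :
    RepWith @Etale (chartMap ρ p hq Φ) ∧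
      (RepWith @Surjective d → RepWith @Surjective (chartMap ρ p hq Φ)) := by
  have key : ∀ {T : Over S} (x : (yon S).obj T ⟶ resSp ρ p), ∃ (R' : Over S) (f : R' ⟶ Φ.R) (r' : R' ⟶ T),
      IsPullback ((yon S).map f) ((yon S).map r') (chartMap ρ p hq Φ) x ∧ Etale r'.left ∧
        (RepWith @Surjective d → Surjective r'.left) := by
    intro T x
    let e := resEquiv ρ p x
    obtain ⟨V, snd₀, fst₀, sq⟩ := hd.rep e.z
    obtain ⟨fst, hfst⟩ := (yon S).map_surjective fst₀
    subst hfst
    have hs : Etale snd₀.left := hd.property _ _ _ sq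
    haveI : IsFinite (pullback.fst e.a ρ).left :=
      MorphismProperty.of_isPullback ((IsPullback.of_hasPullback e.a ρ).map (Over.forget S)).flip ‹IsFinite ρ.left›
    haveI : Flat (pullback.fst e.a ρ).left :=
      MorphismProperty.of_isPullback ((IsPullback.of_hasPullback e.a ρ).map (Over.forget S)).flip ‹Flat ρ.left›
    haveI : LocallyOfFinitePresentation (pullback.fst e.a ρ).left :=
      MorphismProperty.of_isPullback ((IsPullback.of_hasPullback e.a ρ).map (Over.forget S)).flip
        ‹LocallyOfFinitePresentation ρ.left›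
    haveI : IsSeparated snd₀.left := by
      let m : V ⟶ pullback (pullback.fst e.a ρ ≫ 𝟙 T) (𝟙 T) := pullback.lift snd₀ (snd₀ ≫ pullback.fst _ _) (by simp)
      let j : V.left ⟶ pullback (pullback e.a ρ).hom P.hom :=
        pullback.lift snd₀.left fst.left ((Over.w snd₀).trans (Over.w fst).symm)
      haveI : Mono j := by
        refine ⟨fun {A} g₁ g₂ hg => ?_⟩
        have h1 : g₁ ≫ snd₀.left = g₂ ≫ snd₀.left := by
          simpa [j] using hg =≫ pullback.fst _ _
        have h2 : g₁ ≫ fst.left = g₂ ≫ fst.left := by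
          simpa [j] using hg =≫ pullback.snd _ _
        let A₁ : Over S := Over.mk (g₁ ≫ V.hom)
        let k₁ : A₁ ⟶ V := Over.homMk g₁ rfl
        let k₂ : A₁ ⟶ V := Over.homMk g₂ (by
          show g₂ ≫ V.hom = g₁ ≫ V.hom
          rw [← Over.w snd₀, reassoc_of% h1])
        suffices h : k₁ = k₂ from congrArg (fun t => t.left) h
        refine (yon S).map_injective (sq.hom_ext ?_ ?_)
        · rw [← Functor.map_comp, ← Functor.map_comp]
          exact congrArg (yon S).map (Over.OverMorphism.ext h2)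
        · rw [← Functor.map_comp, ← Functor.map_comp]
          exact congrArg (yon S).map (Over.OverMorphism.ext h1)
      haveI : IsSeparated P.hom := IsSeparated.of_comp P.hom (terminal.from S)
      have : snd₀.left = j ≫ pullback.fst _ _ := (pullback.lift_fst _ _ _).symm
      rw [this]
      infer_instance
    haveI := hs
    obtain ⟨Ψ, hΨe, hΨs⟩ := exists_overSect_etale (pullback.fst e.a ρ) snd₀
    -- the map to the scheme of sections
    let toZ : pullback (Ψ.r ≫ e.a) ρ ⟶ pullback Ψ.r (pullback.fst e.a ρ) :=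
      pullback.lift (pullback.fst _ _)
        (pullback.lift (pullback.fst _ _ ≫ Ψ.r) (pullback.snd _ _) (by
          rw [Category.assoc, pullback.condition]))
        (by rw [pullback.lift_fst])
    let s : pullback (Ψ.r ≫ e.a) ρ ⟶ P := toZ ≫ Ψ.σ ≫ fst
    have hfq : fst ≫ q = snd₀ ≫ pullback.snd e.a ρ := (yon S).map_injective (by
      rw [Functor.map_comp, Functor.map_comp, hq, reassoc_of% sq.w, e.hz])
    have hsq : s ≫ q = pullback.snd _ _ := by
      simp only [s, Category.assoc, hfq, reassoc_of% Ψ.σ_q, toZ, pullback.lift_snd_assoc, pullback.lift_snd]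
    obtain ⟨f, ⟨hf, hfs⟩, -⟩ := Φ.univ (Ψ.r ≫ e.a) s hsq
    have htoz : (yon S).map toZ ≫ (yon S).map Ψ.σ ≫ (yon S).map snd₀ =
        (yon S).map (ResPt.coverMap Ψ.r e.a) := by
      rw [← Functor.map_comp, ← Functor.map_comp, Ψ.σ_q]
      congr 1
      apply pullback.hom_ext <;> simp [toZ, ResPt.coverMap]
    have w : (yon S).map f ≫ chartMap ρ p hq Φ = (yon S).map Ψ.r ≫ x := by
      apply (resEquiv ρ p).injective
      rw [resEquiv_chartMap, resEquiv_comp]
      refine ResPt.ext' hf ?_
      change (yon S).map (ResPt.coverMap f Φ.r) ≫ (yon S).map Φ.σ ≫ d =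
        (yon S).map (ResPt.cg hf) ≫ (yon S).map (ResPt.coverMap Ψ.r e.a) ≫ e.z
      rw [← htoz, Category.assoc, Category.assoc, ← sq.w, ← Functor.map_comp_assoc,
        ← Functor.map_comp_assoc, ← Functor.map_comp_assoc, ← Functor.map_comp_assoc]
      congr 2
      have e1 : ResPt.coverMap f Φ.r = ResPt.cg hf ≫
          pullback.map (Ψ.r ≫ e.a) ρ Φ.r ρ f (𝟙 Z) (𝟙 W) (by rw [Category.comp_id, hf]) (by simp) := by
        apply pullback.hom_ext <;> simp [ResPt.cg, ResPt.coverMap, pullback.map]
      rw [e1, Category.assoc, hfs]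
      simp only [s, Category.assoc]
    refine ⟨Ψ.R, f, Ψ.r, ?_, hΨe, fun h => hΨs (h.property _ _ _ sq)⟩
    refine Hilb.isPullback_of_points w (fun A k l h1 h2 => ?_) (fun A u v huv => ?_)
    · have ha : l ≫ Ψ.r = k ≫ Ψ.r := (yon S).map_injective (by simpa using h2.symm)
      have hb : k ≫ f = l ≫ f := (yon S).map_injective (by simpa using h1)
      have uq : ∀ (k : A ⟶ Ψ.R) (a : A ⟶ T) (e' : k ≫ Ψ.r = a),
          (pullback.map a (pullback.fst e.a ρ) Ψ.r (pullback.fst e.a ρ) k (𝟙 _) (𝟙 _)
            (by rw [Category.comp_id, e']) (by simp) ≫ Ψ.σ) ≫ fst =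
          pullback.lift (pullback.fst a (pullback.fst e.a ρ)) (pullback.snd _ _ ≫ pullback.snd e.a ρ)
              (by
                rw [Category.assoc, ← pullback.condition, pullback.condition_assoc])
            ≫ pullback.map (a ≫ e.a) ρ Φ.r ρ (k ≫ f) (𝟙 Z) (𝟙 W)
              (by rw [Category.comp_id, Category.assoc, hf, ← Category.assoc, e']) (by simp) ≫ Φ.σ := by
        intro k a e'
        subst e'
        rw [Category.assoc]
        have e2 : pullback.map ((k ≫ Ψ.r) ≫ e.a) ρ Φ.r ρ (k ≫ f) (𝟙 Z) (𝟙 W)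
              (by rw [Category.comp_id]; exact ((Category.assoc _ _ _).trans
                ((congrArg (k ≫ ·) hf).trans (Category.assoc _ _ _).symm)).symm) (by simp) ≫ Φ.σ =
            pullback.map ((k ≫ Ψ.r) ≫ e.a) ρ (Ψ.r ≫ e.a) ρ k (𝟙 Z) (𝟙 W)
              (by rw [Category.comp_id, Category.assoc]) (by simp) ≫ s := by
          refine Eq.trans ?_ (congrArg (_ ≫ ·) hfs)
          refine Eq.trans ?_ (Category.assoc _ _ _)
          congr 1
          apply pullback.hom_ext <;> simp
        rw [e2]
        simp only [s, ← Category.assoc]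
        congr 2
        apply pullback.hom_ext
        · simp [toZ]
        · apply pullback.hom_ext
          · simp [toZ, pullback.condition]
          · simp [toZ]
      refine (Ψ.univ (k ≫ Ψ.r) _ (by rw [Category.assoc, Ψ.σ_q]; simp)).unique ⟨rfl, rfl⟩ ⟨ha, ?_⟩
      refine (yon S).map_injective (sq.hom_ext ?_ ?_)
      · rw [← Functor.map_comp, ← Functor.map_comp, uq k (k ≫ Ψ.r) rfl, uq l (k ≫ Ψ.r) ha]
        simp only [hb]
      · rw [← Functor.map_comp, ← Functor.map_comp]
        simp [Ψ.σ_q]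
    · obtain ⟨u, rfl⟩ := (yon S).map_surjective u
      obtain ⟨v, rfl⟩ := (yon S).map_surjective v
      have h := congrArg (resEquiv ρ p) huv
      rw [resEquiv_chartMap, resEquiv_comp] at h
      have hua : u ≫ Φ.r = v ≫ e.a := congrArg ResPt.a h
      have hz : (yon S).map (ResPt.coverMap u Φ.r) ≫ (yon S).map Φ.σ ≫ d =
          (yon S).map (ResPt.cg hua) ≫ (yon S).map (ResPt.coverMap v e.a) ≫ e.z := by
        have gen : ∀ {x y : ResPt ρ p A} (h : x = y),
            x.z = (yon S).map (ResPt.cg (congrArg ResPt.a h)) ≫ y.z := by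
          rintro x _ rfl
          rw [ResPt.cg_rfl, CategoryTheory.Functor.map_id, Category.id_comp]
        exact gen h
      -- the section of the slice
      let κ₀ : pullback v (pullback.fst e.a ρ) ⟶ pullback (u ≫ Φ.r) ρ :=
        pullback.lift (pullback.fst _ _) (pullback.snd _ _ ≫ pullback.snd _ _) (by
          rw [hua, ← Category.assoc, pullback.condition, Category.assoc, Category.assoc, pullback.condition])
      have hk : κ₀ ≫ ResPt.cg hua ≫ ResPt.coverMap v e.a = pullback.snd v (pullback.fst e.a ρ) := by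
        apply pullback.hom_ext
        · simp [κ₀, ResPt.cg, ResPt.coverMap, pullback.map, pullback.condition]
        · simp [κ₀, ResPt.cg, ResPt.coverMap, pullback.map]
      have hcond : ((yon S).map (κ₀ ≫ ResPt.coverMap u Φ.r ≫ Φ.σ)) ≫ d =
          (yon S).map (pullback.snd v (pullback.fst e.a ρ)) ≫ e.z := by
        rw [← hk]
        simp only [Functor.map_comp, Category.assoc]
        rw [hz]
      obtain ⟨σ₀, hσ₁, hσ₂⟩ : ∃ σ₀ : pullback v (pullback.fst e.a ρ) ⟶ V,
          σ₀ ≫ fst = κ₀ ≫ ResPt.coverMap u Φ.r ≫ Φ.σ ∧ σ₀ ≫ snd₀ = pullback.snd _ _ := by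
        obtain ⟨σ₀, hσ₀⟩ := (yon S).map_surjective (sq.lift _ _ hcond)
        refine ⟨σ₀, (yon S).map_injective ?_, (yon S).map_injective ?_⟩
        · rw [Functor.map_comp, hσ₀, sq.lift_fst]
        · rw [Functor.map_comp, hσ₀, sq.lift_snd]
      obtain ⟨l, ⟨hl, hls⟩, -⟩ := Ψ.univ v σ₀ hσ₂
      refine ⟨l, ?_, by rw [← Functor.map_comp, hl]⟩
      rw [← Functor.map_comp]
      congr 1
      refine (Φ.univ (u ≫ Φ.r) (ResPt.coverMap u Φ.r ≫ Φ.σ) (by
        rw [Category.assoc, Φ.σ_q]; simp [ResPt.coverMap])).unique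
          ⟨by rw [Category.assoc, hf, ← Category.assoc, hl, hua], ?_⟩ ⟨rfl, rfl⟩
      let back : pullback (u ≫ Φ.r) ρ ⟶ pullback v (pullback.fst e.a ρ) :=
        pullback.lift (pullback.fst _ _) (ResPt.cg hua ≫ ResPt.coverMap v e.a) (by
          simp [ResPt.cg, ResPt.coverMap, pullback.map])
      have hback : back ≫ κ₀ = 𝟙 _ := by
        apply pullback.hom_ext
        · simp [back, κ₀]
        · simp [back, κ₀, ResPt.cg, ResPt.coverMap, pullback.map]
      have e3 : ResPt.coverMap u Φ.r ≫ Φ.σ = back ≫ σ₀ ≫ fst := by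
        rw [hσ₁, reassoc_of% hback]
      rw [e3, ← hls]
      have e4 : pullback.map (u ≫ Φ.r) ρ Φ.r ρ (l ≫ f) (𝟙 Z) (𝟙 W)
            (by rw [Category.comp_id, Category.assoc, hf, ← Category.assoc, hl, hua]) (by simp) ≫ Φ.σ =
          pullback.map (u ≫ Φ.r) ρ (Ψ.r ≫ e.a) ρ l (𝟙 Z) (𝟙 W)
            (by rw [Category.comp_id, ← Category.assoc, hl, hua]) (by simp) ≫ s := by
        refine Eq.trans ?_ (congrArg (_ ≫ ·) hfs)
        refine Eq.trans ?_ (Category.assoc _ _ _)
        congr 1
        apply pullback.hom_ext <;> simp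
      rw [e4]
      simp only [s, ← Category.assoc]
      congr 2
      apply pullback.hom_ext
      · simp [toZ, back]
      · apply pullback.hom_ext
        · simp [toZ, back, ResPt.cg, ResPt.coverMap, pullback.map, hl]
        · simp [toZ, back, ResPt.cg, ResPt.coverMap, pullback.map]
  exact ⟨MorphismProperty.relative.of_exists fun T x => by
      obtain ⟨R', f, r', sq, he, -⟩ := key x
      exact ⟨R', _, r', sq, he⟩,
    fun hds => MorphismProperty.relative.of_exists fun T x => by
      obtain ⟨R', f, r', sq, -, hsu⟩ := key x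
      exact ⟨R', _, r', sq, hsu hds⟩⟩

end Groth.Agent.H14Artin
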