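import Groth.Agent.H8Props.WeilRes.AF
import Groth.Agent.H21Weil.Rep
import Groth.Agent.H17.MorSBaseChange
import Groth.Prelude.Def_Flatn

/-!
# Schemes of sections along a finite locally free morphism
-/

set_option autoImplicit false
set_option backward.isDefEq.respectTransparency false
set_option backward.isDefEq.respectTransparency.types false
set_option linter.style.haveILetI false
universe u

open CategoryTheory CategoryTheory.Limits AlgebraicGeometry Opposite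

namespace Groth.Agent.H14Artin

variable {Zc T P : Scheme.{u}} (g : Zc ⟶ T) (q : P ⟶ Zc)

/-- A scheme classifying the sections of `q` over the pullbacks of `g`. -/
structure SectRep where
  /-- the scheme of sections -/
  R : Scheme.{u}
  /-- its structure map -/
  r : R ⟶ T
  /-- the universal section -/
  σ : pullback r g ⟶ P
  σ_q : σ ≫ q = pullback.snd r g
  univ : ∀ {T' : Scheme.{u}} (c : T' ⟶ T) (s : pullback c g ⟶ P), s ≫ q = pullback.snd c g →
    ∃! h : T' ⟶ R, ∃ e : h ≫ r = c,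
      pullback.map c g r g h (𝟙 Zc) (𝟙 T) (by rw [Category.comp_id, e]) (by simp) ≫ σ = s

namespace SectRep

variable {g q} (Φ : SectRep g q) {T' : Scheme.{u}}

/-- The map of pulled back covers of a point. -/
noncomputable abbrev mapTo {c : T' ⟶ T} (h : T' ⟶ Φ.R) (e : h ≫ Φ.r = c) :
    pullback c g ⟶ pullback Φ.r g :=
  pullback.map c g Φ.r g h (𝟙 Zc) (𝟙 T) (by rw [Category.comp_id, e]) (by simp)

theorem mapTo_fst {c : T' ⟶ T} (h : T' ⟶ Φ.R) (e : h ≫ Φ.r = c) :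
    Φ.mapTo h e ≫ pullback.fst _ _ = pullback.fst _ _ ≫ h := pullback.lift_fst _ _ _

theorem mapTo_snd {c : T' ⟶ T} (h : T' ⟶ Φ.R) (e : h ≫ Φ.r = c) :
    Φ.mapTo h e ≫ pullback.snd _ _ = pullback.snd _ _ := by simp

theorem isPullback_mapTo {c : T' ⟶ T} (h : T' ⟶ Φ.R) (e : h ≫ Φ.r = c) :
    IsPullback (Φ.mapTo h e) (pullback.fst c g) (pullback.fst Φ.r g) h := by
  refine (IsPullback.of_right ?_ (Φ.mapTo_fst h e) (IsPullback.of_hasPullback Φ.r g).flip)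
  rw [Φ.mapTo_snd, e]
  exact (IsPullback.of_hasPullback c g).flip

/-- The point of a section. -/
noncomputable def pt (c : T' ⟶ T) (s : pullback c g ⟶ P) (hs : s ≫ q = pullback.snd c g) :
    T' ⟶ Φ.R := (Φ.univ c s hs).choose

theorem pt_r (c : T' ⟶ T) (s : pullback c g ⟶ P) (hs : s ≫ q = pullback.snd c g) :
    Φ.pt c s hs ≫ Φ.r = c := (Φ.univ c s hs).choose_spec.1.1

theorem pt_σ (c : T' ⟶ T) (s : pullback c g ⟶ P) (hs : s ≫ q = pullback.snd c g) :
    Φ.mapTo (Φ.pt c s hs) (Φ.pt_r c s hs) ≫ Φ.σ = s := (Φ.univ c s hs).choose_spec.1.2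

theorem hom_ext {c : T' ⟶ T} {h h' : T' ⟶ Φ.R} (e : h ≫ Φ.r = c) (e' : h' ≫ Φ.r = c)
    (hh : Φ.mapTo h e ≫ Φ.σ = Φ.mapTo h' e' ≫ Φ.σ) : h = h' :=
  (Φ.univ c (Φ.mapTo h e ≫ Φ.σ) (by rw [Category.assoc, Φ.σ_q, Φ.mapTo_snd])).unique
    ⟨e, rfl⟩ ⟨e', hh.symm⟩

/-- The scheme of sections of an open subscheme of the target. -/
noncomputable def openLocus [IsFinite g] (U : P.Opens) : Φ.R.Opens :=
  ⟨(pullback.fst Φ.r g '' (Φ.σ ⁻¹ᵁ U : Set (pullback Φ.r g : Scheme))ᶜ)ᶜ,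
    ((pullback.fst Φ.r g).isClosedMap _ (Φ.σ ⁻¹ᵁ U).2.isClosed_compl).isOpen_compl⟩

theorem mem_openLocus [IsFinite g] (U : P.Opens) (m : Φ.R) :
    m ∈ Φ.openLocus U ↔ ∀ z, pullback.fst Φ.r g z = m → Φ.σ z ∈ U := by
  refine ⟨fun h z hz => by_contra fun hn => h ⟨z, hn, hz⟩, fun h => ?_⟩
  rintro ⟨z, hn, hz⟩
  exact hn (h z hz)

theorem range_σ_subset [IsFinite g] (U : P.Opens) {c : T' ⟶ T} (h : T' ⟶ Φ.R) (e : h ≫ Φ.r = c) :
    Set.range h ⊆ (Φ.openLocus U : Set Φ.R) ↔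
      Set.range (Φ.mapTo h e ≫ Φ.σ) ⊆ (U : Set P) := by
  constructor
  · rintro H _ ⟨z, rfl⟩
    refine (Φ.mem_openLocus U _).1 (H ⟨pullback.fst c g z, rfl⟩) (Φ.mapTo h e z) ?_
    rw [← Scheme.Hom.comp_apply, Φ.mapTo_fst]
    rfl
  · rintro H _ ⟨t, rfl⟩
    refine (Φ.mem_openLocus U _).2 fun z hz => ?_
    obtain ⟨w, hw, -⟩ := Scheme.exists_preimage_of_isPullback (Φ.isPullback_mapTo h e) z t hz
    rw [← hw]
    exact H ⟨w, rfl⟩

/-- The sections with values in an open subscheme are an open subscheme. -/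
noncomputable def restrict [IsFinite g] (U : P.Opens) : SectRep g (U.ι ≫ q) where
  R := Φ.openLocus U
  r := (Φ.openLocus U).ι ≫ Φ.r
  σ := IsOpenImmersion.lift U.ι (Φ.mapTo (Φ.openLocus U).ι rfl ≫ Φ.σ) (by
    rw [Scheme.Opens.range_ι]
    exact (Φ.range_σ_subset U _ rfl).1 (Scheme.Opens.range_ι _).subset)
  σ_q := by
    rw [IsOpenImmersion.lift_fac_assoc, Category.assoc, Φ.σ_q, Φ.mapTo_snd]
  univ := fun {T'} c s hs => by
    have hs' : (s ≫ U.ι) ≫ q = pullback.snd c g := by rw [Category.assoc, hs]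
    let h₀ := Φ.pt c (s ≫ U.ι) hs'
    have h₀e : h₀ ≫ Φ.r = c := Φ.pt_r c _ hs'
    have hr : Set.range h₀ ⊆ Set.range (Φ.openLocus U).ι := by
      rw [Scheme.Opens.range_ι, Φ.range_σ_subset U h₀ h₀e, Φ.pt_σ c _ hs']
      rintro _ ⟨z, rfl⟩
      exact (s z).2
    let h : T' ⟶ Φ.openLocus U := IsOpenImmersion.lift _ h₀ hr
    have he : h ≫ (Φ.openLocus U).ι ≫ Φ.r = c := by rw [IsOpenImmersion.lift_fac_assoc, h₀e]
    have key : ∀ (k : T' ⟶ Φ.openLocus U) (ek : k ≫ (Φ.openLocus U).ι ≫ Φ.r = c),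
        pullback.map c g ((Φ.openLocus U).ι ≫ Φ.r) g k (𝟙 Zc) (𝟙 T) (by rw [Category.comp_id, ek]) (by simp) ≫
          Φ.mapTo (Φ.openLocus U).ι rfl = Φ.mapTo (k ≫ (Φ.openLocus U).ι) (by rw [Category.assoc, ek]) := by
      intro k ek
      apply pullback.hom_ext <;> simp
    refine ⟨h, ⟨he, ?_⟩, fun k ⟨ek, hk⟩ => ?_⟩
    · rw [← cancel_mono U.ι, Category.assoc, IsOpenImmersion.lift_fac, ← Category.assoc, key h he]
      have e₁ : h ≫ (Φ.openLocus U).ι = h₀ := IsOpenImmersion.lift_fac _ _ _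
      simp only [e₁]
      exact Φ.pt_σ c _ hs'
    · rw [← cancel_mono (Φ.openLocus U).ι, IsOpenImmersion.lift_fac]
      refine Φ.hom_ext (c := c) (by rw [Category.assoc, ek]) h₀e ?_
      rw [Φ.pt_σ c _ hs', ← hk, ← key k ek, Category.assoc, Category.assoc, IsOpenImmersion.lift_fac]

end SectRep

end Groth.Agent.H14Artin
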