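import Groth.Agent.H14Artin.SectExists

/-!
# Base change of schemes of sections, and finite presentation
-/

set_option autoImplicit false
set_option backward.isDefEq.respectTransparency false
set_option backward.isDefEq.respectTransparency.types false
set_option linter.style.haveILetI false
universe u

open CategoryTheory CategoryTheory.Limits AlgebraicGeometry Opposite

namespace Groth.Agent.H14Artin.SectRep

variable {Zc T P T' : Scheme.{u}} {g : Zc ⟶ T} {q : P ⟶ Zc}

/-- The comparison of covers of a base change. -/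
noncomputable def bcCover (g : Zc ⟶ T) (v : T' ⟶ T) {A : Scheme.{u}} (c : A ⟶ T') :
    pullback c (pullback.snd g v) ⟶ pullback (c ≫ v) g :=
  pullback.lift (pullback.fst _ _) (pullback.snd _ _ ≫ pullback.fst g v) (by
    rw [Category.assoc, pullback.condition, ← Category.assoc, pullback.condition, Category.assoc])

instance (g : Zc ⟶ T) (v : T' ⟶ T) {A : Scheme.{u}} (c : A ⟶ T') : IsIso (bcCover g v c) := by
  have sq₁ := (IsPullback.of_hasPullback c (pullback.snd g v)).paste_vert (IsPullback.of_hasPullback g v).flip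
  have e : bcCover g v c = sq₁.isoPullback.hom := by
    apply pullback.hom_ext <;> simp [bcCover]
  rw [e]
  infer_instance

/-- Base change of a scheme of sections. -/
noncomputable def bc (Φ : SectRep g q) (v : T' ⟶ T) :
    SectRep (pullback.snd g v) (pullback.snd q (pullback.fst g v)) where
  R := pullback Φ.r v
  r := pullback.snd Φ.r v
  σ := pullback.lift
    (bcCover g v (pullback.snd Φ.r v) ≫
      Φ.mapTo (c := pullback.snd Φ.r v ≫ v) (pullback.fst Φ.r v) pullback.condition ≫ Φ.σ)
    (pullback.snd _ _) (by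
      rw [Category.assoc, Category.assoc, Φ.σ_q, Φ.mapTo_snd, bcCover, pullback.lift_snd])
  σ_q := pullback.lift_snd _ _ _
  univ := fun {A} c s hs => by
    let s' := inv (bcCover g v c) ≫ s ≫ pullback.fst q (pullback.fst g v)
    have hs' : s' ≫ q = pullback.snd (c ≫ v) g := by
      simp only [s', Category.assoc, pullback.condition, reassoc_of% hs]
      rw [IsIso.inv_comp_eq, bcCover, pullback.lift_snd]
    let h₀ := Φ.pt (c ≫ v) s' hs'
    let h : A ⟶ pullback Φ.r v := pullback.lift h₀ c (Φ.pt_r _ _ hs')
    have key : ∀ (k : A ⟶ pullback Φ.r v) (ek : k ≫ pullback.snd Φ.r v = c),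
        pullback.map c (pullback.snd g v) (pullback.snd Φ.r v) (pullback.snd g v) k (𝟙 _) (𝟙 _)
            (by rw [Category.comp_id, ek]) (by simp) ≫ bcCover g v (pullback.snd Φ.r v) ≫
          Φ.mapTo (c := pullback.snd Φ.r v ≫ v) (pullback.fst Φ.r v) pullback.condition =
        bcCover g v c ≫ Φ.mapTo (c := c ≫ v) (k ≫ pullback.fst Φ.r v)
          (by rw [Category.assoc, pullback.condition, ← Category.assoc, ek]) := by
      intro k ek
      apply pullback.hom_ext <;> simp [bcCover]
    have hk₀ : h ≫ pullback.fst Φ.r v = h₀ := pullback.lift_fst _ _ _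
    refine ⟨h, ⟨pullback.lift_snd _ _ _, pullback.hom_ext ?_ (by simp [hs])⟩, fun k ⟨ek, hk⟩ => ?_⟩
    · have h1 := key h (pullback.lift_snd _ _ _)
      simp only [Category.assoc, pullback.lift_fst]
      rw [reassoc_of% h1]
      simp only [hk₀, Φ.pt_σ _ _ hs', h₀, s', IsIso.hom_inv_id_assoc]
    · refine pullback.hom_ext ?_ (by rw [ek, pullback.lift_snd])
      rw [hk₀]
      refine Φ.hom_ext (c := c ≫ v)
        (by rw [Category.assoc, pullback.condition, ← Category.assoc, ek]) (Φ.pt_r _ _ hs') ?_
      rw [Φ.pt_σ _ _ hs', ← cancel_epi (bcCover g v c), IsIso.hom_inv_id_assoc,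
        ← Category.assoc, ← key k ek, ← hk]
      simp only [Category.assoc, pullback.lift_fst]

variable (Φ : SectRep g q)

/-- The sections are a Weil restriction. -/
theorem isWeil : H21Weil.IsWeil g (Over.mk q) (Over.mk Φ.r)
    (Over.homMk Φ.σ Φ.σ_q : (Over.pullback g).obj (Over.mk Φ.r) ⟶ Over.mk q) := by
  intro A
  refine ⟨fun k k' h => Over.OverMorphism.ext (Φ.hom_ext (c := A.hom) (Over.w k) (Over.w k') ?_),
    fun m => ?_⟩
  · have h' := congrArg (fun t => t.left) h
    simp only [Over.comp_left, Over.homMk_left] at h'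
    refine Eq.trans ?_ (h'.trans ?_)
    · congr 1
      all_goals apply pullback.hom_ext <;> simp
    · congr 1
      all_goals apply pullback.hom_ext <;> simp
  · obtain ⟨k, ⟨ek, hk⟩, -⟩ := Φ.univ A.hom m.left (Over.w m)
    refine ⟨Over.homMk k ek, Over.OverMorphism.ext ?_⟩
    refine Eq.trans ?_ hk
    simp only [Over.comp_left, Over.homMk_left]
    congr 1
    all_goals apply pullback.hom_ext <;> simp

variable [IsFinite g] [Flat g] [LocallyOfFinitePresentation g]

/-- Sections with values in an affine morphism of finite presentation are of finite presentation. -/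
theorem lfp_of_isAffineHom [IsAffineHom q] [LocallyOfFinitePresentation q] :
    LocallyOfFinitePresentation Φ.r :=
  haveI : IsAffineHom (Over.mk q).hom := ‹IsAffineHom q›
  Φ.isWeil.props.2.2 ‹LocallyOfFinitePresentation q›

/-- Finitely many points of a separated quasi-finite scheme over an affine scheme lie in an affine
open. -/
theorem exists_affine_finite {X S : Scheme.{u}} [IsAffine S] (f : X ⟶ S) [IsSeparated f]
    [LocallyQuasiFinite f] [LocallyOfFiniteType f] {F : Set X} (hF : F.Finite) :
    ∃ U : X.Opens, IsAffineOpen U ∧ F ⊆ U := by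
  classical
  obtain ⟨U, hUc, hxU, hUV⟩ := H7Flat.exists_compactOpen_between hF.isCompact (W := f ⁻¹ᵁ ⊤)
    (fun x _ => trivial)
  haveI := (H7Flat.indQA_iff f).1 (H7Flat.indQA_of_isSeparated f) ⊤ (isAffineOpen_top S) U hUc hUV
  obtain ⟨φ, hφ, -, hmem⟩ := H17.QAffGen.exists_basicOpen_finite
    (X := U.toScheme) (U := ⊤) (E := (hF.preimage U.ι.isOpenEmbedding.injective.injOn).toFinset)
    (fun _ _ => trivial)
  refine ⟨U.ι ''ᵁ U.toScheme.basicOpen φ, hφ.image_of_isOpenImmersion U.ι, fun x hx => ?_⟩
  exact ⟨⟨x, hxU hx⟩, hmem _ ((Set.Finite.mem_toFinset _).2 hx), rfl⟩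

/-- Sections over an affine base are of finite presentation. -/
theorem lfp_of_affine [IsAffine T] [IsSeparated q] [LocallyQuasiFinite q]
    [LocallyOfFinitePresentation q] : LocallyOfFinitePresentation Φ.r := by
  haveI : IsAffine Zc := isAffine_of_isAffineHom g
  have key : ∀ m : Φ.R, ∃ U : P.Opens, IsAffineOpen U ∧ m ∈ Φ.openLocus U := fun m => by
    obtain ⟨U, hU, hsub⟩ := exists_affine_finite q
      ((((pullback.fst Φ.r g).finite_preimage_singleton m)).image Φ.σ)
    exact ⟨U, hU, (Φ.mem_openLocus U m).2 fun z hz => hsub ⟨z, hz, rfl⟩⟩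
  choose U hU hmem using key
  refine IsZariskiLocalAtSource.of_openCover (P := @LocallyOfFinitePresentation)
    (Φ.R.openCoverOfIsOpenCover (fun m => Φ.openLocus (U m)) ?_) fun m => ?_
  · exact TopologicalSpace.IsOpenCover.mk (eq_top_iff.2 fun m _ => TopologicalSpace.Opens.mem_iSup.2 ⟨m, hmem m⟩)
  · haveI : IsAffine (U m).toScheme := hU m
    haveI : IsAffineHom ((U m).ι ≫ q) := isAffineHom_of_isAffine _
    exact (Φ.restrict (U m)).lfp_of_isAffineHom

/-- Sections are of finite presentation. -/
theorem lfp_r [IsSeparated q] [LocallyQuasiFinite q] [LocallyOfFinitePresentation q] :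
    LocallyOfFinitePresentation Φ.r := by
  refine IsZariskiLocalAtTarget.of_openCover (P := @LocallyOfFinitePresentation) T.affineCover fun i => ?_
  exact (Φ.bc (T.affineCover.f i)).lfp_of_affine

end Groth.Agent.H14Artin.SectRep
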