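import Groth.Agent.H14Artin.SectBC
import Groth.Agent.H06Unram.EtaleLift
import Groth.Agent.S5008
import Groth.Agent.S5009
import Groth.Agent.H12AlgSp.Dim.Charts

/-!
# Schemes of sections of etale morphisms are etale
-/

set_option autoImplicit false
set_option backward.isDefEq.respectTransparency false
set_option backward.isDefEq.respectTransparency.types false
set_option linter.style.haveILetI false
universe u

open CategoryTheory CategoryTheory.Limits AlgebraicGeometry Opposite

namespace Groth.Agent.H14Artin.SectRep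

variable {Zc T P : Scheme.{u}} {g : Zc ⟶ T} {q : P ⟶ Zc} (Φ : SectRep g q)

/-- A thickening of a point test gives a thickening of covers. -/
theorem thick {A A' : Scheme.{u}} (i : A ⟶ A') [IsClosedImmersion i] [Surjective i]
    (β : A' ⟶ T) {α : A ⟶ Φ.R} (hc : i ≫ β = α ≫ Φ.r) :
    ∃ iZ : pullback (α ≫ Φ.r) g ⟶ pullback β g,
      iZ ≫ pullback.fst _ _ = pullback.fst _ _ ≫ i ∧ iZ ≫ pullback.snd _ _ = pullback.snd _ _ ∧
        IsClosedImmersion iZ ∧ Surjective iZ := by
  let iZ : pullback (α ≫ Φ.r) g ⟶ pullback β g :=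
    pullback.map _ g β g i (𝟙 _) (𝟙 _) (by rw [Category.comp_id, hc]) (by simp)
  have hs : iZ ≫ pullback.snd _ _ = pullback.snd _ _ := by simp [iZ]
  have hf : iZ ≫ pullback.fst _ _ = pullback.fst _ _ ≫ i := pullback.lift_fst _ _ _
  have sq : IsPullback iZ (pullback.fst (α ≫ Φ.r) g) (pullback.fst β g) i := by
    refine IsPullback.of_right ?_ hf (IsPullback.of_hasPullback β g).flip
    rw [hs, hc]
    exact (IsPullback.of_hasPullback (α ≫ Φ.r) g).flip
  exact ⟨iZ, hf, hs, MorphismProperty.of_isPullback sq.flip ‹IsClosedImmersion i›,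
    MorphismProperty.of_isPullback sq.flip ‹Surjective i›⟩

/-- An etale morphism is locally quasi-finite. -/
theorem lqf_of_etale {X Y : Scheme.{u}} (f : X ⟶ Y) [Etale f] : LocallyQuasiFinite f := by
  rw [HasRingHomProperty.iff_appLE (P := @LocallyQuasiFinite)]
  intro U V e
  have h1 := f.formallyUnramified_appLE U.2 V.2 e
  have h2 := f.finiteType_appLE U.2 V.2 e
  algebraize [(f.appLE U.1 V.1 e).hom]
  exact (inferInstance : Algebra.QuasiFinite Γ(Y, U.1) Γ(X, V.1))

variable [Etale q]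

/-- Points lift uniquely along surjective closed immersions. -/
theorem lift_unique {A A' : Scheme.{u}} (i : A ⟶ A') [IsClosedImmersion i] [Surjective i]
    (α : A ⟶ Φ.R) (β : A' ⟶ T) (hc : i ≫ β = α ≫ Φ.r) (γ₁ γ₂ : A' ⟶ Φ.R)
    (h11 : i ≫ γ₁ = α) (h12 : γ₁ ≫ Φ.r = β) (h21 : i ≫ γ₂ = α) (h22 : γ₂ ≫ Φ.r = β) : γ₁ = γ₂ := by
  obtain ⟨iZ, hf, hs, h₁, h₂⟩ := Φ.thick i β hc
  refine Φ.hom_ext h12 h22 ?_
  refine H06Unram.hom_ext_of_surjective q iZ _ _ ?_ ?_
  · rw [Category.assoc, Category.assoc, Φ.σ_q, Φ.mapTo_snd, Φ.mapTo_snd]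
  · rw [← Category.assoc, ← Category.assoc]
    congr 1
    apply pullback.hom_ext
    · simp only [Category.assoc, Φ.mapTo_fst, reassoc_of% hf, h11, h21]
    · simp only [Category.assoc, Φ.mapTo_snd]

/-- Points lift along surjective closed immersions. -/
theorem exists_lift {A A' : Scheme.{u}} (i : A ⟶ A') [IsClosedImmersion i] [Surjective i]
    (α : A ⟶ Φ.R) (β : A' ⟶ T) (hc : i ≫ β = α ≫ Φ.r) :
    ∃ γ : A' ⟶ Φ.R, i ≫ γ = α ∧ γ ≫ Φ.r = β := by
  obtain ⟨iZ, hf, hs, h₁, h₂⟩ := Φ.thick i β hc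
  let s₀ := Φ.mapTo α rfl ≫ Φ.σ
  have hs₀ : s₀ ≫ q = iZ ≫ pullback.snd β g := by
    simp only [s₀, Category.assoc, Φ.σ_q, Φ.mapTo_snd, hs]
  obtain ⟨τ, hτ, hτi⟩ := H06Unram.exists_section (pullback.snd q (pullback.snd β g)) iZ
    (pullback.lift s₀ iZ hs₀) (pullback.lift_snd _ _ _)
  have hsq : (τ ≫ pullback.fst _ _) ≫ q = pullback.snd β g := by
    rw [Category.assoc, pullback.condition, ← Category.assoc, hτ, Category.id_comp]
  let γ := Φ.pt β _ hsq
  refine ⟨γ, ?_, Φ.pt_r _ _ _⟩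
  refine Φ.hom_ext (c := α ≫ Φ.r) (by rw [Category.assoc, Φ.pt_r, hc]) rfl ?_
  have e : Φ.mapTo (c := α ≫ Φ.r) (i ≫ γ) (by rw [Category.assoc, Φ.pt_r, hc]) =
      iZ ≫ Φ.mapTo γ (Φ.pt_r _ _ _) := by
    apply pullback.hom_ext
    · simp only [Category.assoc, Φ.mapTo_fst, reassoc_of% hf]
    · simp only [Category.assoc, Φ.mapTo_snd, hs]
  rw [e, Category.assoc, Φ.pt_σ, ← Category.assoc, hτi, pullback.lift_fst]

variable [IsFinite g] [Flat g] [LocallyOfFinitePresentation g] [IsSeparated q]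

/-- The scheme of sections of an etale morphism is etale. -/
theorem etale_r : Etale Φ.r := by
  haveI := lqf_of_etale q
  haveI := Φ.lfp_r
  have surj : ∀ {B B' : Type u} [CommRing B] [CommRing B'] (φ : B' →+* B),
      Function.Surjective φ → RingHom.ker φ ^ 2 = ⊥ →
      Surjective (Spec.map (CommRingCat.ofHom φ)) := by
    intro B B' _ _ φ hφ hker
    refine ⟨fun x => ?_⟩
    show x ∈ Set.range (PrimeSpectrum.comap φ)
    rw [range_comap_of_surjective _ _ hφ, PrimeSpectrum.mem_zeroLocus]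
    intro a ha
    refine x.isPrime.mem_of_pow_mem 2 ?_
    have h0 : a ^ 2 ∈ RingHom.ker φ ^ 2 := Ideal.pow_mem_pow ha 2
    rw [hker, Ideal.mem_bot] at h0
    rw [h0]
    exact zero_mem _
  haveI : Smooth Φ.r := by
    rw [← Scheme.Hom.smoothLocus_eq_top_iff, eq_top_iff]
    intro x _
    refine (S5008.result Φ.r x).2 fun B B' _ _ _ _ φ hφ hker α β _ hc => ?_
    haveI : IsClosedImmersion (Spec.map (CommRingCat.ofHom φ)) :=
      IsClosedImmersion.spec_of_surjective _ hφ
    haveI := surj φ hφ hker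
    exact Φ.exists_lift _ α β hc
  have hx : ∀ x : Φ.R, ∃ U : Φ.R.Opens, x ∈ U ∧ FormallyUnramified (U.ι ≫ Φ.r) := fun x => by
    refine (S5009.result Φ.r x).2 fun B B' _ _ _ _ φ hφ hker α β _ hc γ₁ γ₂ a b c d => ?_
    haveI : IsClosedImmersion (Spec.map (CommRingCat.ofHom φ)) :=
      IsClosedImmersion.spec_of_surjective _ hφ
    haveI := surj φ hφ hker
    exact Φ.lift_unique _ α β hc γ₁ γ₂ a b c d
  choose U hxU hU using hx
  haveI : FormallyUnramified Φ.r := IsZariskiLocalAtSource.of_openCover (P := @FormallyUnramified)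
    (Φ.R.openCoverOfIsOpenCover U (TopologicalSpace.IsOpenCover.mk
      (eq_top_iff.2 fun x _ => TopologicalSpace.Opens.mem_iSup.2 ⟨x, hxU x⟩))) fun x => hU x
  exact Etale.of_formallyUnramified_of_flat _

omit [IsFinite g] [Flat g] [LocallyOfFinitePresentation g] [IsSeparated q] in
/-- An etale surjection onto a finite scheme over an algebraically closed field has a section. -/
theorem exists_section_finite {K : Type u} [Field K] [IsAlgClosed K] {X Y : Scheme.{u}}
    (f : X ⟶ Spec (CommRingCat.of K)) [IsFinite f] (e : Y ⟶ X) [Etale e] [Surjective e] :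
    ∃ τ : X ⟶ Y, τ ≫ e = 𝟙 _ := by
  haveI : IsAffine X := isAffine_of_isAffineHom f
  let C := Γ(X, ⊤)
  obtain ⟨ψ, hψ⟩ := Spec.map_surjective (X.isoSpec.inv ≫ f)
  letI : Algebra K C := ψ.hom.toAlgebra
  haveI : Module.Finite K C := by
    haveI : IsFinite (Spec.map ψ) := hψ ▸ inferInstance
    exact RingHom.finite_algebraMap.1 ((IsFinite.SpecMap_iff (f := ψ)).1 inferInstance)
  haveI : IsArtinianRing C := IsArtinianRing.of_finite K C
  haveI : Finite (MaximalSpectrum C) := inferInstance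
  let L : MaximalSpectrum C → CommRingCat.{u} := fun m => CommRingCat.of (C ⧸ m.asIdeal)
  let π : ∀ m, CommRingCat.of C ⟶ L m := fun m => CommRingCat.ofHom (Ideal.Quotient.mk m.asIdeal)
  have hpt : ∀ m, ∃ s : Spec (L m) ⟶ Y, s ≫ e = Spec.map (π m) ≫ X.isoSpec.inv := by
    intro m
    haveI : Module.Finite K (C ⧸ m.asIdeal) := inferInstance
    letI : Field (C ⧸ m.asIdeal) := Ideal.Quotient.field m.asIdeal
    haveI : IsAlgClosed (C ⧸ m.asIdeal) :=
      IsAlgClosed.of_ringEquiv K _ (RingEquiv.ofBijective (algebraMap K (C ⧸ m.asIdeal))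
        IsAlgClosed.algebraMap_bijective_of_isIntegral)
    obtain ⟨s, hs⟩ := H12AlgSp.Dim.exists_section_of_surjective
      (pullback.snd e (Spec.map (π m) ≫ X.isoSpec.inv))
    exact ⟨s ≫ pullback.fst _ _, by rw [Category.assoc, pullback.condition, reassoc_of% hs]⟩
  choose s hs using hpt
  let j : Spec (CommRingCat.of (∀ m, L m)) ⟶ X :=
    Spec.map (CommRingCat.ofHom (RingHom.pi fun m => (π m).hom)) ≫ X.isoSpec.inv
  haveI : IsClosedImmersion j := by
    haveI : IsClosedImmersion (Spec.map (CommRingCat.ofHom (RingHom.pi fun m => (π m).hom))) := by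
      refine IsClosedImmersion.spec_of_surjective _ fun x => ?_
      obtain ⟨c, hc⟩ := Ideal.exists_forall_sub_mem_ideal (I := fun m : MaximalSpectrum C => m.asIdeal)
        (fun a b hab => Ideal.isCoprime_iff_sup_eq.2 (a.isMaximal.coprime_of_ne b.isMaximal
          fun h => hab (MaximalSpectrum.ext h)))
        (fun m => (Ideal.Quotient.mk_surjective (x m)).choose)
      refine ⟨c, funext fun m => ?_⟩
      refine Eq.trans ?_ (Ideal.Quotient.mk_surjective (x m)).choose_spec
      exact Ideal.Quotient.eq.2 (hc m)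
    infer_instance
  let σ₀ : Spec (CommRingCat.of (∀ m, L m)) ⟶ Y := inv (sigmaSpec L) ≫ Sigma.desc s
  have hσ₀ : σ₀ ≫ e = j := by
    rw [Category.assoc, IsIso.inv_comp_eq]
    refine Sigma.hom_ext _ _ fun m => ?_
    rw [Sigma.ι_desc_assoc, hs, ι_sigmaSpec_assoc]
    simp only [j, ← Category.assoc, ← Spec.map_comp]
    rfl
  haveI : Surjective j := by
    refine ⟨fun x => ?_⟩
    let y := X.isoSpec.hom x
    haveI := (IsArtinianRing.isPrime_iff_isMaximal y.asIdeal).1 y.isPrime
    let m : MaximalSpectrum C := ⟨y.asIdeal, inferInstance⟩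
    letI : Field (C ⧸ m.asIdeal) := Ideal.Quotient.field m.asIdeal
    let p : Spec (L m) := ⟨⊥, Ideal.isPrime_bot⟩
    refine ⟨Spec.map (CommRingCat.ofHom (Pi.evalRingHom (fun m => L m) m)) p, ?_⟩
    rw [← Scheme.Hom.comp_apply]
    simp only [j, ← Category.assoc, ← Spec.map_comp]
    rw [Scheme.Hom.comp_apply,
      show Spec.map (CommRingCat.ofHom (RingHom.pi fun m => (π m).hom) ≫
        CommRingCat.ofHom (Pi.evalRingHom (fun m => L m) m)) p = y from PrimeSpectrum.ext (Ideal.ext fun c => by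
          show Ideal.Quotient.mk m.asIdeal c ∈ (⊥ : Ideal (C ⧸ m.asIdeal)) ↔ _
          rw [Ideal.mem_bot, Ideal.Quotient.eq_zero_iff_mem])]
    exact Scheme.hom_inv_apply X.isoSpec x
  obtain ⟨τ, hτ, -⟩ := H06Unram.exists_section e j σ₀ hσ₀
  exact ⟨τ, hτ⟩

omit [IsSeparated q] in
/-- The scheme of sections of an etale surjection covers the base. -/
theorem surjective_r [Surjective q] : Surjective Φ.r := by
  refine ⟨fun t => ?_⟩
  let K := AlgebraicClosure (T.residueField t)
  let c : Spec (CommRingCat.of K) ⟶ T :=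
    Spec.map (CommRingCat.ofHom (algebraMap (T.residueField t) K)) ≫ T.fromSpecResidueField t
  obtain ⟨τ, hτ⟩ := exists_section_finite (pullback.fst c g) (pullback.snd q (pullback.snd c g))
  have hs : (τ ≫ pullback.fst _ _) ≫ q = pullback.snd c g := by
    rw [Category.assoc, pullback.condition, ← Category.assoc, hτ, Category.id_comp]
  refine ⟨Φ.pt c _ hs (IsLocalRing.closedPoint K), ?_⟩
  rw [← Scheme.Hom.comp_apply, Φ.pt_r, Scheme.Hom.comp_apply]
  exact Scheme.fromSpecResidueField_apply t _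

end Groth.Agent.H14Artin.SectRep
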