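import Groth.Agent.H14Artin.Sect
import Groth.Agent.S7196

/-!
# Existence of schemes of sections
-/

set_option autoImplicit false
set_option backward.isDefEq.respectTransparency false
set_option backward.isDefEq.respectTransparency.types false
set_option linter.style.haveILetI false
universe u

open CategoryTheory CategoryTheory.Limits AlgebraicGeometry Opposite

namespace Groth.Agent.H14Artin

variable {Zc T P : Scheme.{u}} (g : Zc ⟶ T) (q : P ⟶ Zc) [IsFinite g] [Flat g]
  [LocallyOfFinitePresentation g]

/-- Sections are representable if morphisms are. -/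
theorem nonempty_sectRep (h : (Flatn.morS g (q ≫ g)).IsRepresentable) :
    Nonempty (SectRep g q) := by
  obtain ⟨N, -, ⟨eN⟩⟩ := H8Props.WeilRes.exists_isAffineHom_representableBy g g
  let M := (Flatn.morS g (q ≫ g)).reprX
  let eM : (Flatn.morS g (q ≫ g)).RepresentableBy M := (Flatn.morS g (q ≫ g)).representableBy
  -- post-composition with `q`
  let qo : Over.mk (q ≫ g) ⟶ Over.mk g := Over.homMk q rfl
  let uM : (Over.map g).obj ((Over.pullback g).obj M) ⟶ Over.mk (q ≫ g) := eM.homEquiv (𝟙 M)
  let π : M ⟶ N := eN.homEquiv.symm (uM ≫ qo)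
  let idPt : (Flatn.morS g g).obj (op (Over.mk (𝟙 T))) :=
    (Over.homMk (pullback.snd (𝟙 T) g) rfl :
      (Over.map g).obj ((Over.pullback g).obj (Over.mk (𝟙 T))) ⟶ Over.mk g)
  let ι : Over.mk (𝟙 T) ⟶ N := eN.homEquiv.symm idPt
  have hM : ∀ {A : Over T} (f : A ⟶ M),
      eM.homEquiv f = ((Over.map g).map ((Over.pullback g).map f) ≫ uM : _ ⟶ Over.mk (q ≫ g)) :=
    fun f => by
      have := eM.homEquiv_comp f (𝟙 M)
      rw [Category.comp_id] at this
      exact this
  have hpi : ∀ {A : Over T} (f : A ⟶ M), eN.homEquiv (f ≫ π) =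
      ((Over.map g).map ((Over.pullback g).map f) ≫ uM ≫ qo : _ ⟶ Over.mk g) := fun f => by
    rw [eN.homEquiv_comp]
    simp only [π, Equiv.apply_symm_apply]
    rfl
  have hid : ∀ {A : Over T} (a : A ⟶ Over.mk (𝟙 T)), eN.homEquiv (a ≫ ι) =
      (Over.homMk (pullback.snd A.hom g) rfl : (Over.map g).obj ((Over.pullback g).obj A) ⟶ Over.mk g) :=
    fun a => by
      rw [eN.homEquiv_comp]
      simp only [ι, Equiv.apply_symm_apply]
      refine Over.OverMorphism.ext ?_
      show ((Over.pullback g).map a).left ≫ pullback.snd (𝟙 T) g = _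
      simp
  let R₀ : Over T := pullback π ι
  let σ : pullback R₀.hom g ⟶ P :=
    ((Over.map g).map ((Over.pullback g).map (pullback.fst π ι)) ≫ uM).left
  refine ⟨{ R := R₀.left, r := R₀.hom, σ := σ, σ_q := ?_, univ := fun {T'} c s hs => ?_ }⟩
  · have h1 := (hpi (pullback.fst π ι)).symm.trans ((congrArg eN.homEquiv pullback.condition).trans
      (hid (pullback.snd π ι)))
    have h2 := congrArg (fun k : (Over.map g).obj ((Over.pullback g).obj R₀) ⟶ Over.mk g => k.left) h1
    exact (Category.assoc _ _ _).trans h2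
  · let A : Over T := Over.mk c
    let s' : (Over.map g).obj ((Over.pullback g).obj A) ⟶ Over.mk (q ≫ g) := Over.homMk s (by
      show s ≫ q ≫ g = pullback.snd c g ≫ g
      rw [reassoc_of% hs])
    let f : A ⟶ M := eM.homEquiv.symm s'
    have hf : f ≫ π = Over.homMk c (Category.comp_id _) ≫ ι := by
      refine eN.homEquiv.injective ?_
      rw [hpi, hid, ← Category.assoc]
      have h3 : ((Over.map g).map ((Over.pullback g).map f) ≫ uM : _ ⟶ Over.mk (q ≫ g)) = s' :=
        (hM f).symm.trans (eM.homEquiv.apply_symm_apply s')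
      refine (congrArg (fun k : _ ⟶ Over.mk (q ≫ g) => k ≫ qo) h3).trans ?_
      exact Over.OverMorphism.ext hs
    let h₀ : A ⟶ R₀ := pullback.lift f (Over.homMk c (Category.comp_id _)) hf
    have key : ∀ (k : A ⟶ R₀) (e : k.left ≫ R₀.hom = c),
        pullback.map c g R₀.hom g k.left (𝟙 Zc) (𝟙 T) (by rw [Category.comp_id, e]) (by simp) ≫ σ =
          ((Over.map g).map ((Over.pullback g).map (k ≫ pullback.fst π ι)) ≫ uM).left := fun k e => by
      rw [Functor.map_comp, Functor.map_comp, Category.assoc]
      show _ = _ ≫ σ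
      congr 1
      all_goals apply pullback.hom_ext <;> simp
    refine ⟨h₀.left, ⟨Over.w h₀, ?_⟩, fun k ⟨e, hk⟩ => ?_⟩
    · rw [key h₀ (Over.w h₀)]
      have h3 : ((Over.map g).map ((Over.pullback g).map (h₀ ≫ pullback.fst π ι)) ≫ uM :
          _ ⟶ Over.mk (q ≫ g)) = s' := by
        rw [pullback.lift_fst]
        exact (hM f).symm.trans (eM.homEquiv.apply_symm_apply s')
      exact congrArg (fun k => k.left) h3
    · let k₀ : A ⟶ R₀ := Over.homMk k e
      suffices h4 : k₀ = h₀ from congrArg (fun t => t.left) h4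
      refine pullback.hom_ext ?_ (Over.OverMorphism.ext ?_)
      · rw [pullback.lift_fst]
        refine eM.homEquiv.injective ?_
        rw [hM, hM]
        have h3 : ((Over.map g).map ((Over.pullback g).map f) ≫ uM : _ ⟶ Over.mk (q ≫ g)) = s' :=
          (hM f).symm.trans (eM.homEquiv.apply_symm_apply s')
        rw [h3]
        exact Over.OverMorphism.ext ((key k₀ e).symm.trans hk)
      · have h5 := Over.w (k₀ ≫ pullback.snd π ι)
        have h6 := Over.w (h₀ ≫ pullback.snd π ι)
        exact ((Category.comp_id _).symm.trans h5).trans (h6.symm.trans (Category.comp_id _))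

/-- Sections of a separated locally quasi-finite morphism of finite type are representable. -/
theorem nonempty_sectRep_lqf [IsSeparated q] [LocallyQuasiFinite q] [LocallyOfFiniteType q] :
    Nonempty (SectRep g q) :=
  nonempty_sectRep g q (S7196.result g (q ≫ g) ⟨inferInstance, inferInstance, inferInstance⟩)

end Groth.Agent.H14Artin
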