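import Groth.Agent.H14Artin.OverSect
import Groth.Agent.H14Atlas.Lfp
import Groth.Agent.H14Atlas.Points

/-!
# Framed sections over one base seen over another
-/

set_option autoImplicit false
set_option backward.isDefEq.respectTransparency false
set_option backward.isDefEq.respectTransparency.types false
set_option linter.style.haveILetI false
universe u

open CategoryTheory CategoryTheory.Limits AlgebraicGeometry
open MonoidalCategory CartesianMonoidalCategory

namespace Groth.Agent.H14Artin

open H14Atlas (Res frameRho frameW frameZ frameCoord frameCover)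

section Generic

variable {S' : Scheme.{u}} {Z₀ W₀ : Over S'} {ρ₀ : Z₀ ⟶ W₀} {G : Over S'} (M : Res ρ₀ G)
  {Zc T P : Scheme.{u}} (g : Zc ⟶ T) (q : P ⟶ Zc) (eT : T ≅ W₀.left) (eZ : Zc ≅ Z₀.left)
  (hg : g ≫ eT.hom = eZ.hom ≫ ρ₀.left) (π : P ⟶ G.left)
  (sq : IsPullback π q G.hom (eZ.hom ≫ Z₀.hom))

include hg in
theorem resCover_w :
    pullback.fst (M.base.left ≫ eT.inv) g ≫ M.base.left =
      (pullback.snd (M.base.left ≫ eT.inv) g ≫ eZ.hom) ≫ ρ₀.left := by
  rw [← cancel_mono eT.inv, Category.assoc, pullback.condition, Category.assoc, Category.assoc,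
    ← reassoc_of% hg, Iso.hom_inv_id, Category.comp_id]

/-- The comparison of the covers. -/
noncomputable def resCover : pullback (M.base.left ≫ eT.inv) g ⟶ (pullback M.base ρ₀).left :=
  ((IsPullback.of_hasPullback M.base ρ₀).map (Over.forget S')).lift (pullback.fst _ _)
    (pullback.snd _ _ ≫ eZ.hom) (resCover_w M g eT eZ hg)

theorem resCover_fst :
    resCover M g eT eZ hg ≫ (pullback.fst M.base ρ₀).left = pullback.fst _ _ :=
  IsPullback.lift_fst _ _ _ _

theorem resCover_snd :
    resCover M g eT eZ hg ≫ (pullback.snd M.base ρ₀).left = pullback.snd _ _ ≫ eZ.hom :=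
  IsPullback.lift_snd _ _ _ _

theorem resCover_G :
    (resCover M g eT eZ hg ≫ M.val.left) ≫ G.hom =
      pullback.snd (M.base.left ≫ eT.inv) g ≫ eZ.hom ≫ Z₀.hom := by
  rw [Category.assoc, Over.w M.val, ← Over.w (pullback.snd M.base ρ₀), ← Category.assoc,
    resCover_snd, Category.assoc]

include sq in
/-- The sections over one base as sections over another. -/
noncomputable def sectRepOfRes : SectRep g q where
  R := M.obj.left
  r := M.base.left ≫ eT.inv
  σ := sq.lift (resCover M g eT eZ hg ≫ M.val.left) (pullback.snd _ _) (resCover_G M g eT eZ hg)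
  σ_q := sq.lift_snd _ _ _
  univ := fun {T'} c s hs => by
    let T₂ : Over S' := Over.mk ((c ≫ eT.hom) ≫ W₀.hom)
    let a : T₂ ⟶ W₀ := Over.homMk (c ≫ eT.hom) rfl
    have sqa := (IsPullback.of_hasPullback a ρ₀).map (Over.forget S')
    simp only [Over.forget_map] at sqa
    have hw : (pullback.fst a ρ₀).left ≫ c = ((pullback.snd a ρ₀).left ≫ eZ.inv) ≫ g := by
      rw [← cancel_mono eT.hom, Category.assoc, Category.assoc, Category.assoc, hg,
        Iso.inv_hom_id_assoc]
      exact sqa.w
    let back : (pullback a ρ₀).left ⟶ pullback c g := pullback.lift _ _ hw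
    let z : pullback a ρ₀ ⟶ G := Over.homMk (back ≫ s ≫ π) (by
      rw [Category.assoc, Category.assoc, sq.w, reassoc_of% hs, ← Category.assoc, pullback.lift_snd,
        Category.assoc, Iso.inv_hom_id_assoc]
      exact Over.w (pullback.snd a ρ₀))
    obtain ⟨h, ⟨he, hz⟩, huniq⟩ := M.univ a z
    have hle : h.left ≫ M.base.left = c ≫ eT.hom := congrArg (fun t => t.left) he
    have hc : pullback.fst c g ≫ c ≫ eT.hom = (pullback.snd c g ≫ eZ.hom) ≫ ρ₀.left := by
      rw [Category.assoc, ← hg, pullback.condition_assoc]
    let fwd : pullback c g ⟶ (pullback a ρ₀).left := sqa.lift _ _ hc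
    have fwd_back : fwd ≫ back = 𝟙 _ := by
      apply pullback.hom_ext
      · simp only [fwd, back, Category.assoc, pullback.lift_fst, Category.id_comp]
        exact sqa.lift_fst _ _ hc
      · simp only [fwd, back, Category.assoc, pullback.lift_snd, Category.id_comp]
        rw [← Category.assoc, sqa.lift_snd _ _ hc, Category.assoc, Iso.hom_inv_id, Category.comp_id]
    have back_fwd : back ≫ fwd = 𝟙 _ := by
      refine sqa.hom_ext ?_ ?_
      · simp [fwd, back]
      · simp [fwd, back]
    have key : ∀ (k : T₂ ⟶ M.obj) (ek : k ≫ M.base = a) (ek' : k.left ≫ M.base.left ≫ eT.inv = c),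
        fwd ≫ (pullback.map a ρ₀ M.base ρ₀ k (𝟙 Z₀) (𝟙 W₀) (by rw [Category.comp_id, ek]) (by simp)).left =
          pullback.map c g (M.base.left ≫ eT.inv) g k.left (𝟙 Zc) (𝟙 T)
              (by rw [Category.comp_id, ek']) (by simp) ≫ resCover M g eT eZ hg := by
      intro k ek ek'
      refine ((IsPullback.of_hasPullback M.base ρ₀).map (Over.forget S')).hom_ext ?_ ?_
      · simp only [Over.forget_map, Category.assoc, resCover_fst, ← Over.comp_left, pullback.lift_fst]
        simp [fwd]
      · simp only [Over.forget_map, Category.assoc, resCover_snd, ← Over.comp_left, pullback.lift_snd,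
          Category.comp_id]
        simp [fwd]
    have e₀ : h.left ≫ M.base.left ≫ eT.inv = c := by
      rw [reassoc_of% hle, Iso.hom_inv_id, Category.comp_id]
    refine ⟨h.left, ⟨e₀, sq.hom_ext ?_ ?_⟩, fun k ⟨ek', hk⟩ => ?_⟩
    · rw [Category.assoc, sq.lift_fst, ← Category.assoc, ← key h he e₀, Category.assoc,
        ← Over.comp_left, hz]
      exact (reassoc_of% fwd_back) (s ≫ π)
    · simp [hs]
    · let k' : T₂ ⟶ M.obj := Over.homMk k (by
        show k ≫ M.obj.hom = (c ≫ eT.hom) ≫ W₀.hom
        rw [← Over.w M.base, ← ek']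
        simp)
      have ek : k' ≫ M.base = a := Over.OverMorphism.ext (by
        show k ≫ M.base.left = c ≫ eT.hom
        rw [← ek']
        simp)
      refine congrArg (fun t => t.left) (huniq k' ⟨ek, Over.OverMorphism.ext ?_⟩)
      show _ = back ≫ s ≫ π
      rw [← Category.id_comp (pullback.map a ρ₀ M.base ρ₀ k' _ _ _ _ ≫ M.val).left, ← back_fwd,
        Over.comp_left, Category.assoc]
      refine congrArg (back ≫ ·) ?_
      rw [← hk, Category.assoc, sq.lift_fst, ← Category.assoc, key k' ek ek']
      exact Category.assoc _ _ _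

end Generic

section Frame

variable {S : Scheme.{u}} (U : Over S)

/-- The frames of a scheme over `S` over itself and over `S`. -/
theorem exists_frame_iso :
    ∃ (eT : (U ⊗ frameW S).left ≅ (frameW U.left).left)
      (eZ : (pullback (snd U (frameW S)) (frameRho S)).left ≅ (frameZ U.left).left),
      (pullback.fst (snd U (frameW S)) (frameRho S)).left ≫ eT.hom = eZ.hom ≫ (frameRho U.left).left ∧
        eT.hom ≫ (frameW U.left).hom = (fst U (frameW S)).left := by
  have sq₁ : IsPullback (fst U (frameW S)).left (snd U (frameW S)).left U.hom (frameW S).hom :=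
    IsPullback.of_hasPullback U.hom (frameW S).hom
  have sq₂ : IsPullback (fst U (frameW S)).left ((snd U (frameW S)).left ≫ frameCoord S)
      (terminal.from U.left) (terminal.from H14Atlas.frameBase.{u}) := by
    have h := sq₁.paste_vert (IsPullback.of_hasPullback (terminal.from S) (terminal.from H14Atlas.frameBase.{u}))
    rwa [show U.hom ≫ terminal.from S = terminal.from U.left from terminal.hom_ext _ _] at h
  have sq₂' : IsPullback (frameW U.left).hom (frameCoord U.left) (terminal.from U.left)
      (terminal.from H14Atlas.frameBase.{u}) := IsPullback.of_hasPullback _ _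
  let eT := sq₂.isoIsPullback _ _ sq₂'
  have hcoord : eT.hom ≫ frameCoord U.left = (snd U (frameW S)).left ≫ frameCoord S :=
    IsPullback.isoIsPullback_hom_snd _ _ _ _
  have sq₃ := ((IsPullback.of_hasPullback (snd U (frameW S)) (frameRho S)).map (Over.forget S)).paste_vert
    (H14Atlas.isPullback_frameZ (S := S))
  simp only [Over.forget_map] at sq₃
  have sq₄ : IsPullback ((pullback.fst (snd U (frameW S)) (frameRho S)).left ≫ eT.hom)
      ((pullback.snd (snd U (frameW S)) (frameRho S)).left ≫ pullback.snd (frameCoord S) frameCover)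
      (frameCoord U.left) frameCover :=
    sq₃.of_iso (Iso.refl _) eT (Iso.refl _) (Iso.refl _) (by simp) (by simp) (by simp [hcoord]) (by simp)
  let eZ := sq₄.isoIsPullback _ _ (H14Atlas.isPullback_frameZ (S := U.left))
  exact ⟨eT, eZ, (IsPullback.isoIsPullback_hom_fst _ _ _ _).symm, IsPullback.isoIsPullback_hom_fst _ _ _ _⟩

end Frame

end Groth.Agent.H14Artin
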