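import Groth.Agent.H14Stk.Local
import Groth.Agent.H14Fib.Setoid
import Groth.Agent.H13AlgSp.Cover
import Groth.Prelude.Def_AlgSt2

/-!
# Objects of a stack with a section of a chart along a finite cover
-/

set_option autoImplicit false
set_option backward.isDefEq.respectTransparency false
set_option backward.isDefEq.respectTransparency.types false
set_option linter.style.haveILetI false
universe u

open CategoryTheory CategoryTheory.Limits CategoryTheory.Functor AlgebraicGeometry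

namespace Groth.Agent.H14Artin

open H14Fib H14Stk

variable {S : Scheme.{u}} {Z W : Over S} (ρ : Z ⟶ W) {U : Over S} {𝒳 : AlgSt.Cat S}
  (x : FibCat.overCat U ⥤ᵇ 𝒳)

/-- An object with a point of the base and a section of the chart over the pulled back cover. -/
structure SecObj : Type (u + 1) where
  /-- the object -/
  ξ : 𝒳.obj
  /-- the scheme it lies over -/
  base : Over S
  hbase : 𝒳.p.obj ξ = base
  /-- the point of the base of covers -/
  a : base ⟶ W
  /-- the map to the chart -/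
  u : pullback a ρ ⟶ U
  /-- the comparison -/
  m : x.obj (Over.mk u) ⟶ ξ
  hm : 𝒳.p.IsHomLift (pullback.fst a ρ) m

variable {ρ x}

/-- The map of covers over a map of points. -/
noncomputable abbrev covMap {T' T : Over S} {a' : T' ⟶ W} {a : T ⟶ W} (f : T' ⟶ T) (h : f ≫ a = a') :
    pullback a' ρ ⟶ pullback a ρ :=
  pullback.map a' ρ a ρ f (𝟙 Z) (𝟙 W) (by rw [Category.comp_id, h]) (by simp)

theorem covMap_fst {T' T : Over S} {a' : T' ⟶ W} {a : T ⟶ W} (f : T' ⟶ T) (h : f ≫ a = a') :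
    covMap (ρ := ρ) f h ≫ pullback.fst _ _ = pullback.fst _ _ ≫ f := pullback.lift_fst _ _ _

theorem covMap_snd {T' T : Over S} {a' : T' ⟶ W} {a : T ⟶ W} (f : T' ⟶ T) (h : f ≫ a = a') :
    covMap (ρ := ρ) f h ≫ pullback.snd _ _ = pullback.snd _ _ := by simp

/-- Morphisms. -/
structure SecHom (v' v : SecObj ρ x) where
  /-- the map of bases -/
  f : v'.base ⟶ v.base
  /-- the map of objects -/
  χ : v'.ξ ⟶ v.ξ
  hχ : 𝒳.p.IsHomLift f χ
  ha : f ≫ v.a = v'.a
  hu : covMap f ha ≫ v.u = v'.u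
  hm : x.map (show Over.mk v'.u ⟶ Over.mk v.u from Over.homMk (covMap f ha) hu) ≫ v.m = v'.m ≫ χ

theorem SecHom.ext' {v' v : SecObj ρ x} {φ ψ : SecHom v' v} (h₁ : φ.f = ψ.f) (h₂ : φ.χ = ψ.χ) :
    φ = ψ := by
  obtain ⟨f, χ, _, _, _, _⟩ := φ
  obtain ⟨g, ω, _, _, _, _⟩ := ψ
  change f = g at h₁
  change χ = ω at h₂
  subst h₁ h₂
  rfl

noncomputable instance : Category.{u} (SecObj ρ x) where
  Hom := SecHom
  id v :=
    { f := 𝟙 _
      χ := 𝟙 _
      hχ := IsHomLift.id v.hbase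
      ha := Category.id_comp _
      hu := by
        rw [show covMap (ρ := ρ) (𝟙 v.base) (Category.id_comp v.a) = 𝟙 _ from by
          apply pullback.hom_ext <;> simp, Category.id_comp]
      hm := by
        rw [show (show Over.mk v.u ⟶ Over.mk v.u from Over.homMk (covMap (𝟙 v.base) (Category.id_comp v.a)) _) =
          𝟙 _ from Over.OverMorphism.ext (show covMap (ρ := ρ) (𝟙 v.base) (Category.id_comp v.a) = 𝟙 _ by
            apply pullback.hom_ext <;> simp)]
        rw [x.toFunctor.map_id, Category.id_comp, Category.comp_id] }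
  comp {v'' v' v} φ ψ :=
    { f := φ.f ≫ ψ.f
      χ := φ.χ ≫ ψ.χ
      hχ := homLift_comp' φ.hχ ψ.hχ
      ha := (Category.assoc _ _ _).trans ((congrArg (φ.f ≫ ·) ψ.ha).trans φ.ha)
      hu := by
        rw [show covMap (ρ := ρ) (φ.f ≫ ψ.f) ((Category.assoc _ _ _).trans ((congrArg (φ.f ≫ ·) ψ.ha).trans φ.ha)) = covMap φ.f φ.ha ≫ covMap ψ.f ψ.ha from by
          apply pullback.hom_ext <;> simp, Category.assoc, ψ.hu, φ.hu]
      hm := by
        rw [show (show Over.mk v''.u ⟶ Over.mk v.u from Over.homMk (covMap (φ.f ≫ ψ.f) ((Category.assoc _ _ _).trans ((congrArg (φ.f ≫ ·) ψ.ha).trans φ.ha))) _) =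
          (show Over.mk v''.u ⟶ Over.mk v'.u from Over.homMk (covMap φ.f φ.ha) φ.hu) ≫
            (show Over.mk v'.u ⟶ Over.mk v.u from Over.homMk (covMap ψ.f ψ.ha) ψ.hu) from
          Over.OverMorphism.ext (show covMap (ρ := ρ) (φ.f ≫ ψ.f) ((Category.assoc _ _ _).trans ((congrArg (φ.f ≫ ·) ψ.ha).trans φ.ha)) = covMap φ.f φ.ha ≫ covMap ψ.f ψ.ha by
            apply pullback.hom_ext <;> simp)]
        rw [x.toFunctor.map_comp, Category.assoc, ψ.hm, reassoc_of% φ.hm] }
  id_comp φ := SecHom.ext' (Category.id_comp _) (Category.id_comp _)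
  comp_id φ := SecHom.ext' (Category.comp_id _) (Category.comp_id _)
  assoc φ ψ ω := SecHom.ext' (Category.assoc _ _ _) (Category.assoc _ _ _)

variable (ρ x)

/-- The category of objects with sections, over schemes. -/
noncomputable def secSt : AlgSt.Cat S where
  obj := SecObj ρ x
  p :=
    { obj := fun v => v.base
      map := fun {v' v} (φ : SecHom v' v) => φ.f }

/-- Forgetting the section. -/
noncomputable def secForget : secSt ρ x ⥤ᵇ 𝒳 where
  toFunctor :=
    { obj := fun v => v.ξ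
      map := fun {v' v} (φ : SecHom v' v) => φ.χ }
  w := by
    refine CategoryTheory.Functor.ext (fun v => v.hbase) fun v' v φ => ?_
    exact @IsHomLift.fac' _ _ _ _ 𝒳.p _ _ _ _ (φ : SecHom v' v).f (φ : SecHom v' v).χ (φ : SecHom v' v).hχ

variable {ρ x}

theorem secSt_isHomLift {v' v : SecObj ρ x} (φ : v' ⟶ v) :
    (secSt ρ x).p.IsHomLift φ.f φ := IsHomLift.map (secSt ρ x).p φ

/-- Objects with sections form a category fibred in groupoids. -/
theorem secSt_fibGrpd (h𝒳 : FibCat.IsFibGrpd 𝒳.p) : FibCat.IsFibGrpd (secSt ρ x).p where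
  exists_lift := fun {v} {V} f => by
    let v₀ : SecObj ρ x := v
    change V ⟶ v₀.base at f
    obtain ⟨η, φ, hφ⟩ := exists_sc_lift h𝒳 v₀.hbase f
    let a' := f ≫ v₀.a
    let c : pullback a' ρ ⟶ pullback v₀.a ρ := covMap f rfl
    let k : (Over.mk (c ≫ v₀.u) : Over U) ⟶ Over.mk v₀.u := Over.homMk c rfl
    haveI : (FibCat.overCat U).p.IsHomLift c k := IsHomLift.map (FibCat.overCat U).p k
    have hk : 𝒳.p.IsHomLift c (x.map k) := BasedFunctor.preserves_isHomLift x c k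
    have hl : 𝒳.p.IsHomLift (pullback.fst a' ρ ≫ f) (x.map k ≫ v₀.m) := by
      haveI := homLift_comp' hk v₀.hm
      exact homLift_congr (covMap_fst f rfl) _
    obtain ⟨μ, ⟨hμ, hμc⟩, -⟩ :=
      IsStronglyCartesian.universal_property 𝒳.p f φ (pullback.fst a' ρ) _ rfl (x.map k ≫ v₀.m)
    let v' : SecObj ρ x :=
      { ξ := η, base := V, hbase := IsHomLift.domain_eq 𝒳.p f φ, a := a', u := c ≫ v₀.u, m := μ, hm := hμ }
    let ψ : v' ⟶ v₀ :=
      { f := f, χ := φ, hχ := inferInstance, ha := rfl, hu := rfl, hm := hμc.symm }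
    exact ⟨v', ψ, secSt_isHomLift ψ⟩
  isStronglyCartesian := fun {v' v} φ =>
    { universal_property' := fun {v''} g ψ hψ => by
        let φ₀ : SecHom v' v := φ
        let ψ₀ : SecHom v'' v := ψ
        change v''.base ⟶ v'.base at g
        have hg : g ≫ φ₀.f = ψ₀.f :=
          IsHomLift.eq_of_isHomLift (secSt ρ x).p (g ≫ (secSt ρ x).p.map φ) ψ
        haveI := φ₀.hχ
        haveI := sc_of_fibGrpd h𝒳 φ₀.f φ₀.χ
        haveI := ψ₀.hχ
        haveI := homLift_congr (p := 𝒳.p) hg.symm ψ₀.χ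
        obtain ⟨ω, ⟨hω, hωc⟩, -⟩ :=
          IsStronglyCartesian.universal_property 𝒳.p φ₀.f φ₀.χ g _ rfl ψ₀.χ
        have ha : g ≫ v'.a = v''.a := by rw [← φ₀.ha, ← Category.assoc, hg, ψ₀.ha]
        have ec : covMap (ρ := ρ) g ha ≫ covMap φ₀.f φ₀.ha = covMap ψ₀.f ψ₀.ha := by
          apply pullback.hom_ext <;> simp [← hg]
        have hu : covMap g ha ≫ v'.u = v''.u := by rw [← φ₀.hu, ← Category.assoc, ec, ψ₀.hu]
        let k : (Over.mk v''.u : Over U) ⟶ Over.mk v'.u := Over.homMk (covMap g ha) hu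
        have hm : x.map k ≫ v'.m = v''.m ≫ ω := by
          haveI : (FibCat.overCat U).p.IsHomLift (covMap (ρ := ρ) g ha) k :=
            IsHomLift.map (FibCat.overCat U).p k
          have h1 : 𝒳.p.IsHomLift (pullback.fst v''.a ρ ≫ g) (x.map k ≫ v'.m) := by
            haveI := homLift_comp' (BasedFunctor.preserves_isHomLift x (covMap (ρ := ρ) g ha) k) v'.hm
            exact homLift_congr (covMap_fst g ha) _
          have h2 : 𝒳.p.IsHomLift (pullback.fst v''.a ρ ≫ g) (v''.m ≫ ω) := homLift_comp' v''.hm hω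
          refine IsStronglyCartesian.ext 𝒳.p φ₀.f φ₀.χ (pullback.fst v''.a ρ ≫ g) ?_
          rw [Category.assoc, φ₀.hm.symm, Category.assoc, hωc, ← ψ₀.hm, ← Category.assoc, ← x.toFunctor.map_comp]
          congr 2
          exact Over.OverMorphism.ext ec
        let θ : v'' ⟶ v' := { f := g, χ := ω, hχ := hω, ha := ha, hu := hu, hm := hm }
        refine ⟨θ, ⟨secSt_isHomLift θ, SecHom.ext' hg hωc⟩, ?_⟩
        rintro θ' ⟨hθ', e⟩
        let θ₀ : SecHom v'' v' := θ'
        have ef : θ₀.f = g := (IsHomLift.eq_of_isHomLift (secSt ρ x).p g θ').symm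
        refine SecHom.ext' ef ?_
        haveI := hω
        haveI := θ₀.hχ
        haveI := homLift_congr (p := 𝒳.p) ef θ₀.χ
        refine IsStronglyCartesian.ext 𝒳.p φ₀.f φ₀.χ g ?_
        rw [hωc]
        exact congrArg SecHom.χ e }

theorem secForget_faithful (h𝒳 : Stk.IsPrestack (AlgSp.J S) 𝒳)
    [Flat ρ.left] [LocallyOfFinitePresentation ρ.left] [Surjective ρ.left] :
    FibCat.IsFibSetoid (secSt ρ x).p ∧ (secForget ρ x).toFunctor.Faithful := by
  have hfa : (secSt ρ x).p.Faithful := by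
    refine ⟨fun {v' v} φ ψ h => ?_⟩
    let φ₀ : SecHom v' v := φ
    let ψ₀ : SecHom v' v := ψ
    change φ₀.f = ψ₀.f at h
    refine SecHom.ext' h ?_
    haveI := φ₀.hχ
    haveI := sc_of_fibGrpd h𝒳.1 φ₀.f φ₀.χ
    haveI := ψ₀.hχ
    haveI : 𝒳.p.IsHomLift (𝟙 v'.base ≫ φ₀.f) ψ₀.χ := homLift_congr (h.symm.trans (Category.id_comp _).symm) _
    obtain ⟨e, ⟨he, hec⟩, -⟩ :=
      IsStronglyCartesian.universal_property 𝒳.p φ₀.f φ₀.χ (𝟙 v'.base) _ rfl ψ₀.χ
    haveI := he
    haveI := v'.hm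
    suffices e = 𝟙 v'.ξ by rw [← hec, this, Category.id_comp]
    haveI : 𝒳.p.IsHomLift (𝟙 v'.base) (𝟙 v'.ξ) := IsHomLift.id v'.hbase
    have hme : v'.m ≫ e = v'.m := by
      haveI : 𝒳.p.IsHomLift (pullback.fst v'.a ρ) (v'.m ≫ e) :=
        haveI := homLift_comp' v'.hm he
        homLift_congr (Category.comp_id _) _
      refine IsStronglyCartesian.ext 𝒳.p φ₀.f φ₀.χ (pullback.fst v'.a ρ) ?_
      rw [Category.assoc, hec, ← φ₀.hm, ← ψ₀.hm]
      congr 2
      exact Over.OverMorphism.ext (by simp only [Over.homMk_left]; congr 1; exact h.symm)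
    haveI := sc_of_fibGrpd h𝒳.1 (pullback.fst v'.a ρ) v'.m
    have sq := (IsPullback.of_hasPullback v'.a ρ).map (Over.forget S)
    have hJ : Sieve.ofArrows (fun _ : PUnit.{u + 1} => pullback v'.a ρ) (fun _ => pullback.fst v'.a ρ) ∈
        AlgSp.J S v'.base :=
      H13AlgSp.ofArrows_mem_J _ (fun _ => MorphismProperty.of_isPullback sq.flip ‹Flat ρ.left›)
        (fun _ => MorphismProperty.of_isPullback sq.flip ‹LocallyOfFinitePresentation ρ.left›) fun t => by
        haveI : Surjective (pullback.fst v'.a ρ).left := MorphismProperty.of_isPullback sq.flip ‹Surjective ρ.left›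
        exact ⟨⟨⟩, (pullback.fst v'.a ρ).left.surjective t⟩
    refine vert_ext_of_local h𝒳 hJ e (𝟙 _) fun V f hf s ψ' hψ' => ?_
    obtain ⟨_, l, _, ⟨_⟩, rfl⟩ := hf
    obtain ⟨ψ₁, ⟨_, hψ₁⟩, -⟩ :=
      IsStronglyCartesian.universal_property 𝒳.p (pullback.fst v'.a ρ) v'.m l _ rfl ψ'
    rw [← hψ₁, Category.assoc, hme, Category.comp_id]
  refine ⟨fibSetoid_iff_faithful.2 ⟨secSt_fibGrpd h𝒳.1, hfa⟩, ⟨fun {v' v} φ ψ h => ?_⟩⟩
  refine SecHom.ext' ?_ h
  let φ₀ : SecHom v' v := φ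
  let ψ₀ : SecHom v' v := ψ
  haveI := φ₀.hχ
  haveI : 𝒳.p.IsHomLift ψ₀.f φ₀.χ := (show φ₀.χ = ψ₀.χ from h) ▸ ψ₀.hχ
  exact (@IsHomLift.fac _ _ _ _ 𝒳.p _ _ _ _ φ₀.f φ₀.χ φ₀.hχ).trans
    (@IsHomLift.fac _ _ _ _ 𝒳.p _ _ _ _ ψ₀.f φ₀.χ ‹_›).symm

end Groth.Agent.H14Artin
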