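import Groth.Agent.H14Artin.ResAtlas
import Groth.Agent.H14Artin.SectStack
import Groth.Agent.H14Quot.ClassSheaf

/-!
# Forgetting a section is representable by algebraic spaces
-/

set_option autoImplicit false
set_option backward.isDefEq.respectTransparency false
set_option backward.isDefEq.respectTransparency.types false
set_option linter.style.haveILetI false
set_option maxHeartbeats 1000000
universe u

open CategoryTheory CategoryTheory.Limits CategoryTheory.Functor AlgebraicGeometry Opposite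
open MonoidalCategory CartesianMonoidalCategory
open AlgSp (Sp yon J IsAlgSpace IsAlgSpaceP)

namespace Groth.Agent.H14Artin

-- keep one instance for pullbacks along the cover: mixing two is very slow to check
attribute [-instance] CategoryTheory.IsPullback.instHasPullbackFst

open H14Fib H14Stk H14AlgSt H14Quot

variable {S : Scheme.{u}} {Z W : Over S} (ρ : Z ⟶ W) {U : Over S} {𝒳 : AlgSt.Cat S}
  (x : FibCat.overCat U ⥤ᵇ 𝒳) {T : Over S} (y : FibCat.overCat T ⥤ᵇ 𝒳)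

/-- The cover of the product with the test scheme. -/
noncomputable abbrev rhoT (T : Over S) : pullback (snd T W) ρ ⟶ T ⊗ W := pullback.fst (snd T W) ρ

/-- The projection of the cover to the test scheme. -/
noncomputable abbrev zT (T : Over S) : pullback (snd T W) ρ ⟶ T := rhoT ρ T ≫ fst T W

variable (hW : Stk.IsStack (J S) (FibCat.fp y x)) (hs : FibCat.IsFibSetoid (FibCat.fp y x).p)

/-- The sheaf of pairs of a point of the cover and a comparison with the chart. -/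
noncomputable abbrev slY : Sp S :=
  pullback (classTo hW hs (FibCat.fpFst y x)) ((yon S).map (zT ρ T))

/-- The projection to the cover. -/
noncomputable abbrev slP : slY ρ x y hW hs ⟶ (yon S).obj (pullback (snd T W) ρ) := pullback.snd _ _

/-- An object with a section together with a point of the test scheme. -/
structure SlDatum (V : Over S) where
  /-- the point -/
  s : V ⟶ T
  /-- the object with a section -/
  v : SecObj ρ x
  /-- the map of bases -/
  f : V ⟶ v.base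
  /-- the comparison -/
  ψ : y.obj (Over.mk s) ⟶ v.ξ
  hψ : 𝒳.p.IsHomLift f ψ

variable {ρ x y}

namespace SlDatum

variable {V V' : Over S} (D : SlDatum ρ x y V)

/-- The point of the base of covers. -/
noncomputable abbrev pa : V ⟶ T ⊗ W := lift D.s (D.f ≫ D.v.a)

/-- The map of covers. -/
noncomputable abbrev k : pullback D.pa (rhoT ρ T) ⟶ pullback D.v.a ρ :=
  pullback.lift (pullback.fst _ _ ≫ D.f) (pullback.snd _ _ ≫ pullback.snd _ _) (by
    rw [Category.assoc, Category.assoc, ← pullback.condition, ← pullback.condition_assoc, lift_snd])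

theorem exists_wit (h𝒳 : FibCat.IsFibGrpd 𝒳.p) :
    ∃ e : y.obj (Over.mk (pullback.fst D.pa (rhoT ρ T) ≫ D.s)) ≅ x.obj (Over.mk (D.k ≫ D.v.u)),
      𝒳.p.IsHomLift (𝟙 (pullback D.pa (rhoT ρ T))) e.hom ∧
      e.hom ≫ x.map (show Over.mk (D.k ≫ D.v.u) ⟶ Over.mk D.v.u from Over.homMk D.k rfl) ≫ D.v.m =
        y.map (show Over.mk (pullback.fst D.pa (rhoT ρ T) ≫ D.s) ⟶ Over.mk D.s from
          Over.homMk (pullback.fst _ _) rfl) ≫ D.ψ := by
  let kk : (Over.mk (D.k ≫ D.v.u) : Over U) ⟶ Over.mk D.v.u := Over.homMk D.k rfl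
  let ff : (Over.mk (pullback.fst D.pa (rhoT ρ T) ≫ D.s) : Over T) ⟶ Over.mk D.s :=
    Over.homMk (pullback.fst _ _) rfl
  haveI : (FibCat.overCat U).p.IsHomLift D.k kk := IsHomLift.map (FibCat.overCat U).p kk
  haveI : (FibCat.overCat T).p.IsHomLift (pullback.fst D.pa (rhoT ρ T)) ff :=
    IsHomLift.map (FibCat.overCat T).p ff
  haveI : 𝒳.p.IsHomLift (pullback.fst D.pa (rhoT ρ T) ≫ D.f) (x.map kk ≫ D.v.m) := by
    haveI := homLift_comp' (BasedFunctor.preserves_isHomLift x D.k kk) D.v.hm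
    exact homLift_congr (f := D.k ≫ pullback.fst _ _) (by simp) _
  haveI : 𝒳.p.IsHomLift (pullback.fst D.pa (rhoT ρ T) ≫ D.f) (y.map ff ≫ D.ψ) :=
    homLift_comp' (BasedFunctor.preserves_isHomLift y (pullback.fst D.pa (rhoT ρ T)) ff) D.hψ
  obtain ⟨e, he, hec⟩ :=
    exists_vertIso h𝒳 (pullback.fst D.pa (rhoT ρ T) ≫ D.f) (y.map ff ≫ D.ψ) (x.map kk ≫ D.v.m)
  exact ⟨e, he, hec⟩

variable (h𝒳 : FibCat.IsFibGrpd 𝒳.p)

/-- The comparison with the chart over the cover. -/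
noncomputable def wit : (FibCat.fp y x).obj :=
  ⟨{ fst := Over.mk (pullback.fst D.pa (rhoT ρ T) ≫ D.s)
     snd := Over.mk (D.k ≫ D.v.u)
     iso := (D.exists_wit h𝒳).choose }, (D.exists_wit h𝒳).choose_spec.1⟩

theorem wit_spec :
    (D.wit h𝒳).obj.iso.hom ≫ x.map (show Over.mk (D.k ≫ D.v.u) ⟶ Over.mk D.v.u from Over.homMk D.k rfl)
      ≫ D.v.m =
      y.map (show Over.mk (pullback.fst D.pa (rhoT ρ T) ≫ D.s) ⟶ Over.mk D.s from
          Over.homMk (pullback.fst _ _) rfl) ≫ D.ψ := (D.exists_wit h𝒳).choose_spec.2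

theorem wit_obj : (FibCat.fp y x).p.obj (D.wit h𝒳) = pullback D.pa (rhoT ρ T) := rfl

/-- The point of the sheaf of sections of a datum. -/
noncomputable def toRes : ResPt (rhoT ρ T) (slP ρ x y hW hs) V where
  a := D.pa
  z := pullback.lift (point hW hs (D.wit h𝒳) (D.wit_obj h𝒳)) ((yon S).map (pullback.snd _ _)) (by
    rw [point_classTo, ← Functor.map_comp, ← pullback.condition_assoc, lift_fst]
    congr 1)
  hz := pullback.lift_snd _ _ _

theorem toRes_a : (D.toRes hW hs h𝒳).a = D.pa := rfl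

theorem toRes_z_fst : (D.toRes hW hs h𝒳).z ≫ pullback.fst _ _ =
    point hW hs (D.wit h𝒳) (D.wit_obj h𝒳) := pullback.lift_fst _ _ _

theorem toRes_eq_point {D D' : SlDatum ρ x y V} (ea : D.pa = D'.pa)
    (h : D.toRes hW hs h𝒳 = D'.toRes hW hs h𝒳) :
    (yon S).map (ResPt.cg ea) ≫ point hW hs (D'.wit h𝒳) (D'.wit_obj h𝒳) =
      point hW hs (D.wit h𝒳) (D.wit_obj h𝒳) := by
  have gen : ∀ (a b : V ⟶ T ⊗ W) (e : a = b)
      (z : (yon S).obj (pullback a (rhoT ρ T)) ⟶ slY ρ x y hW hs)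
      (hz : z ≫ slP ρ x y hW hs = (yon S).map (pullback.snd a (rhoT ρ T)))
      (z' : (yon S).obj (pullback b (rhoT ρ T)) ⟶ slY ρ x y hW hs)
      (hz' : z' ≫ slP ρ x y hW hs = (yon S).map (pullback.snd b (rhoT ρ T))),
      (⟨a, z, hz⟩ : ResPt (rhoT ρ T) (slP ρ x y hW hs) V) = ⟨b, z', hz'⟩ →
      z ≫ pullback.fst _ _ = (yon S).map (ResPt.cg e) ≫ z' ≫ pullback.fst _ _ := by
    intro a b e z hz z' hz' hh
    subst e
    rw [ResPt.cg_rfl, CategoryTheory.Functor.map_id, Category.id_comp]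
    cases hh
    rfl
  have h' := gen D.pa D'.pa ea _ _ _ _ h
  rw [pullback.lift_fst, pullback.lift_fst] at h'
  exact h'.symm

theorem toRes_map {D : SlDatum ρ x y V} {D' : SlDatum ρ x y V'} (h : V' ⟶ V) (es : h ≫ D.s = D'.s)
    (μ : D'.v ⟶ D.v) (ef : D'.f ≫ SecHom.f μ = h ≫ D.f)
    (eψ : y.map (show Over.mk D'.s ⟶ Over.mk D.s from Over.homMk h es) ≫ D.ψ = D'.ψ ≫ SecHom.χ μ) :
    (D.toRes hW hs h𝒳).map h = D'.toRes hW hs h𝒳 := by
  have ea : h ≫ D.pa = D'.pa := by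
    rw [pa, comp_lift, es, reassoc_of% ef.symm, SecHom.ha μ]
  refine ResPt.ext' ea ?_
  let c : pullback D'.pa (rhoT ρ T) ⟶ pullback D.pa (rhoT ρ T) :=
    pullback.map D'.pa (rhoT ρ T) D.pa (rhoT ρ T) h (𝟙 _) (𝟙 _) (by rw [Category.comp_id, ea]) (by simp)
  have ec : ResPt.coverMap h D.pa = ResPt.cg ea ≫ c := by
    apply pullback.hom_ext <;> simp [c, ResPt.cg, ResPt.coverMap, pullback.map]
  show (yon S).map (ResPt.coverMap h D.pa) ≫ (D.toRes hW hs h𝒳).z =
    (yon S).map (ResPt.cg ea) ≫ (D'.toRes hW hs h𝒳).z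
  rw [ec, Functor.map_comp, Category.assoc]
  refine congrArg ((yon S).map (ResPt.cg ea) ≫ ·) ?_
  refine pullback.hom_ext ?_ ?_
  swap
  · simp only [toRes, Category.assoc, pullback.lift_snd, ← Functor.map_comp]
    simp [c]
  simp only [toRes, Category.assoc, pullback.lift_fst]
  have e1 : c ≫ pullback.fst _ _ ≫ D.s = pullback.fst _ _ ≫ D'.s := by simp [c, es]
  have e2 : c ≫ D.k = D'.k ≫ covMap (SecHom.f μ) (SecHom.ha μ) := by
    apply pullback.hom_ext <;> simp [c, ef]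
  have e3 : c ≫ D.k ≫ D.v.u = D'.k ≫ D'.v.u := by
    rw [reassoc_of% e2, SecHom.hu μ]
  let a₁ : (Over.mk (pullback.fst D'.pa (rhoT ρ T) ≫ D'.s) : Over T) ⟶
      Over.mk (pullback.fst D.pa (rhoT ρ T) ≫ D.s) := Over.homMk c e1
  let a₂ : (Over.mk (D'.k ≫ D'.v.u) : Over U) ⟶ Over.mk (D.k ≫ D.v.u) := Over.homMk c e3
  haveI : (FibCat.overCat U).p.IsHomLift c a₂ := IsHomLift.map (FibCat.overCat U).p a₂
  haveI : (FibCat.overCat T).p.IsHomLift c a₁ := IsHomLift.map (FibCat.overCat T).p a₁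
  have hw : y.map a₁ ≫ (D.wit h𝒳).obj.iso.hom = (D'.wit h𝒳).obj.iso.hom ≫ x.map a₂ := by
    let kk : (Over.mk (D.k ≫ D.v.u) : Over U) ⟶ Over.mk D.v.u := Over.homMk D.k rfl
    haveI : (FibCat.overCat U).p.IsHomLift D.k kk := IsHomLift.map (FibCat.overCat U).p kk
    haveI : 𝒳.p.IsHomLift (D.k ≫ pullback.fst _ _) (x.map kk ≫ D.v.m) :=
      homLift_comp' (BasedFunctor.preserves_isHomLift x D.k kk) D.v.hm
    haveI := sc_of_fibGrpd h𝒳 (D.k ≫ pullback.fst _ _) (x.map kk ≫ D.v.m)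
    have h1 : 𝒳.p.IsHomLift (𝟙 (pullback D.pa (rhoT ρ T))) (D.wit h𝒳).obj.iso.hom :=
      (D.wit h𝒳).property
    have h2 : 𝒳.p.IsHomLift (𝟙 (pullback D'.pa (rhoT ρ T))) (D'.wit h𝒳).obj.iso.hom :=
      (D'.wit h𝒳).property
    haveI : 𝒳.p.IsHomLift c (y.map a₁ ≫ (D.wit h𝒳).obj.iso.hom) := by
      haveI := homLift_comp' (BasedFunctor.preserves_isHomLift y c a₁) h1
      exact homLift_congr (Category.comp_id c) _
    haveI : 𝒳.p.IsHomLift c ((D'.wit h𝒳).obj.iso.hom ≫ x.map a₂) := by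
      haveI := homLift_comp' h2 (BasedFunctor.preserves_isHomLift x c a₂)
      exact homLift_congr (Category.id_comp c) _
    refine IsStronglyCartesian.ext 𝒳.p (D.k ≫ pullback.fst _ _) (x.map kk ≫ D.v.m) c ?_
    rw [Category.assoc, Category.assoc, D.wit_spec h𝒳, ← reassoc_of% (x.toFunctor.map_comp a₂ kk)]
    rw [← Category.assoc, ← y.toFunctor.map_comp]
    have k1 : a₁ ≫ (show Over.mk (pullback.fst D.pa (rhoT ρ T) ≫ D.s) ⟶ Over.mk D.s from
        Over.homMk (pullback.fst _ _) rfl) =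
      (show Over.mk (pullback.fst D'.pa (rhoT ρ T) ≫ D'.s) ⟶ Over.mk D'.s from
        Over.homMk (pullback.fst _ _) rfl) ≫ (show Over.mk D'.s ⟶ Over.mk D.s from Over.homMk h es) :=
      Over.OverMorphism.ext (by simp [a₁, c])
    have k2 : a₂ ≫ kk = (show Over.mk (D'.k ≫ D'.v.u) ⟶ Over.mk D'.v.u from Over.homMk D'.k rfl) ≫
      (show Over.mk D'.v.u ⟶ Over.mk D.v.u from
        Over.homMk (covMap (SecHom.f μ) (SecHom.ha μ)) (SecHom.hu μ)) := Over.OverMorphism.ext e2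
    rw [k1, k2, y.toFunctor.map_comp, x.toFunctor.map_comp, Category.assoc, Category.assoc, eψ, SecHom.hm μ]
    exact (reassoc_of% (D'.wit_spec h𝒳)) _ |>.symm
  let Θ : D'.wit h𝒳 ⟶ D.wit h𝒳 := ObjectProperty.homMk { fst := a₁, snd := a₂, w := hw }
  have hΘ : (FibCat.fp y x).p.IsHomLift c Θ := IsHomLift.map (FibCat.fp y x).p Θ
  exact map_point hW hs Θ c hΘ (D.wit_obj h𝒳) (D'.wit_obj h𝒳)

end SlDatum

section Datum

variable {V : Over S}

/-- The datum of an object of the fibre product. -/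
noncomputable def datum (o : (FibCat.fp y (secForget ρ x)).obj) (ho : o.obj.fst.left = V) :
    SlDatum ρ x y V where
  s := eqToHom ho.symm ≫ o.obj.fst.hom
  v := o.obj.snd
  f := eqToHom (ho.symm.trans ((@IsHomLift.codomain_eq _ _ _ _ 𝒳.p _ _ _ _ _ _ o.property).symm.trans
    (SecObj.hbase o.obj.snd)))
  ψ := y.map (show Over.mk (eqToHom ho.symm ≫ o.obj.fst.hom) ⟶ o.obj.fst from
    Over.homMk (eqToHom ho.symm) rfl) ≫ o.obj.iso.hom
  hψ := by
    subst ho
    have hh : 𝒳.p.IsHomLift (𝟙 o.obj.fst.left) o.obj.iso.hom := o.property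
    let i : Over.mk (eqToHom rfl ≫ o.obj.fst.hom) ⟶ o.obj.fst := Over.homMk (eqToHom rfl) rfl
    haveI : (FibCat.overCat T).p.IsHomLift (eqToHom rfl : o.obj.fst.left ⟶ o.obj.fst.left) i :=
      IsHomLift.map (FibCat.overCat T).p i
    have h1 : 𝒳.p.IsHomLift (eqToHom rfl : o.obj.fst.left ⟶ o.obj.fst.left)
        (y.map i ≫ o.obj.iso.hom) := by
      haveI := homLift_comp' (BasedFunctor.preserves_isHomLift y (eqToHom rfl) i) hh
      exact homLift_congr (Category.comp_id _) _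
    have e : (SecObj.base o.obj.snd) = o.obj.fst.left :=
      (SecObj.hbase o.obj.snd).symm.trans (@IsHomLift.codomain_eq _ _ _ _ 𝒳.p _ _ _ _ _ _ hh)
    haveI := (IsHomLift.lift_comp_eqToHom_iff 𝒳.p (eqToHom rfl) (y.map i ≫ o.obj.iso.hom) e.symm).2 h1
    exact homLift_congr (f := eqToHom rfl ≫ eqToHom e.symm) (eqToHom_trans _ _) _

variable (ρ x y)

/-- The map from classes of the fibre product to sections. -/
noncomputable def clToRes (h𝒳 : FibCat.IsFibGrpd 𝒳.p) (o : (FibCat.fp y (secForget ρ x)).obj)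
    (ho : o.obj.fst.left = V) : ResPt (rhoT ρ T) (slP ρ x y hW hs) V :=
  (datum o ho).toRes hW hs h𝒳

theorem clToRes_map (h𝒳 : FibCat.IsFibGrpd 𝒳.p) {V' : Over S} (h : V' ⟶ V)
    {o' o : (FibCat.fp y (secForget ρ x)).obj} (μ : o' ⟶ o)
    (hμ : (FibCat.fp y (secForget ρ x)).p.IsHomLift h μ)
    (ho : o.obj.fst.left = V) (ho' : o'.obj.fst.left = V') :
    (clToRes ρ x y hW hs h𝒳 o ho).map h = clToRes ρ x y hW hs h𝒳 o' ho' := by
  subst ho ho'
  have hh : h = μ.hom.fst.left :=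
    IsHomLift.eq_of_isHomLift (FibCat.fp y (secForget ρ x)).p h μ
  subst hh
  refine SlDatum.toRes_map hW hs h𝒳 _ ?_ μ.hom.snd ?_ ?_
  · simp [datum]
  · have := (FibCat.fp_isHomLift_snd (f := μ))
    have e := @IsHomLift.fac' _ _ _ _ (secSt ρ x).p _ _ _ _ _ _ this
    change SecHom.f μ.hom.snd = _ at e
    simp only [datum, e]
    simp
    rfl
  · simp only [datum]
    have w : y.map μ.hom.fst ≫ o.obj.iso.hom = o'.obj.iso.hom ≫ (secForget ρ x).map μ.hom.snd := μ.hom.w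
    change _ = _ ≫ (secForget ρ x).map μ.hom.snd
    rw [Category.assoc, ← w, ← Category.assoc, ← Category.assoc, ← y.toFunctor.map_comp,
      ← y.toFunctor.map_comp]
    congr 2

variable {ρ x y}

theorem exists_iso_of_toRes_eq (h𝒳 : FibCat.IsFibGrpd 𝒳.p) {D D' : SlDatum ρ x y V} [IsIso D.f]
    (h : D.toRes hW hs h𝒳 = D'.toRes hW hs h𝒳) :
    D.s = D'.s ∧ ∃ μ : D.v ⟶ D'.v, D.f ≫ SecHom.f μ = D'.f ∧
      ∃ es : D.s = D'.s, y.map (show Over.mk D.s ⟶ Over.mk D'.s from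
        Over.homMk (𝟙 V) (by exact (Category.id_comp _).trans es.symm)) ≫ D'.ψ = D.ψ ≫ SecHom.χ μ := by
  have ea : D.pa = D'.pa :=
    (SlDatum.toRes_a hW hs D h𝒳).symm.trans ((congrArg ResPt.a h).trans (SlDatum.toRes_a hW hs D' h𝒳))
  have es : D.s = D'.s := by simpa [SlDatum.pa] using congrArg (· ≫ fst T W) ea
  have eb : D.f ≫ D.v.a = D'.f ≫ D'.v.a := by simpa [SlDatum.pa] using congrArg (· ≫ snd T W) ea
  refine ⟨es, ?_⟩
  obtain ⟨c, hc⟩ : ∃ c : pullback D.pa (rhoT ρ T) ⟶ pullback D'.pa (rhoT ρ T), c = ResPt.cg ea :=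
    ⟨_, rfl⟩
  have hz := SlDatum.toRes_eq_point hW hs h𝒳 ea h
  rw [← hc] at hz
  obtain ⟨d, δ, hδc⟩ := exists_sc_lift hW.1 (D'.wit_obj h𝒳) c
  haveI : (FibCat.fp y x).p.IsHomLift c δ := inferInstance
  have hd : (FibCat.fp y x).p.obj d = pullback D.pa (rhoT ρ T) :=
    IsHomLift.domain_eq (FibCat.fp y x).p c δ
  have hmp := map_point hW hs δ c inferInstance (D'.wit_obj h𝒳) hd
  rw [hz] at hmp
  obtain ⟨ε, hε⟩ := (point_eq_iff hW hs (ha := D.wit_obj h𝒳) (hb := hd)).1 hmp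
  -- a morphism of the witnesses over the comparison of covers
  let Θ : D.wit h𝒳 ⟶ D'.wit h𝒳 := ε.hom ≫ δ
  have hΘ : (FibCat.fp y x).p.IsHomLift c Θ := by
    haveI := homLift_comp' hε ‹(FibCat.fp y x).p.IsHomLift c δ›
    exact homLift_congr (Category.id_comp c) _
  have e₁ : Θ.hom.fst.left = c :=
    (IsHomLift.eq_of_isHomLift (FibCat.fp y x).p (a := D.wit h𝒳) (b := D'.wit h𝒳) c Θ).symm
  have e₂ : Θ.hom.snd.left = c := by
    have := FibCat.fp_isHomLift_snd (f := Θ)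
    have e := (IsHomLift.eq_of_isHomLift (FibCat.overCat U).p (a := (D.wit h𝒳).obj.snd) (b := (D'.wit h𝒳).obj.snd) ((FibCat.fp y x).p.map Θ) Θ.hom.snd).symm
    exact e.trans e₁
  -- the map of objects with sections
  let g : D.v.base ⟶ D'.v.base := inv D.f ≫ D'.f
  have hga : g ≫ D'.v.a = D.v.a := by simp [g, ← eb]
  have ek : D.k ≫ covMap g hga = c ≫ D'.k := by
    apply pullback.hom_ext <;> simp [g, hc, ResPt.cg, pullback.map]
  let l : pullback D.v.a ρ ⟶ pullback D.pa (rhoT ρ T) :=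
    pullback.lift (pullback.fst _ _ ≫ inv D.f)
      (pullback.lift (pullback.fst _ _ ≫ inv D.f ≫ D.pa) (pullback.snd _ _) (by
        simp [SlDatum.pa, pullback.condition]))
      (by simp)
  haveI : IsIso D.k := ⟨l, by
    apply pullback.hom_ext
    · simp [l]
    · apply pullback.hom_ext
      · simp [l, pullback.condition]
        apply CartesianMonoidalCategory.hom_ext
        · rw [lift_fst, Category.assoc, ← pullback.condition_assoc, lift_fst]
        · rw [lift_snd, Category.assoc, pullback.condition]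
      · simp [l], by apply pullback.hom_ext <;> simp [l]⟩
  have hu : covMap g hga ≫ D'.v.u = D.v.u := by
    rw [← cancel_epi D.k, reassoc_of% ek]
    refine Eq.trans ?_ (Over.w Θ.hom.snd)
    rw [e₂]
    rfl
  haveI := D.hψ
  haveI := D'.hψ
  haveI : IsIso D.ψ := isIso_of_fibGrpd h𝒳 D.f D.ψ
  let i : Over.mk D.s ⟶ Over.mk D'.s := Over.homMk (𝟙 V) (by exact (Category.id_comp _).trans es.symm)
  let χ : D.v.ξ ⟶ D'.v.ξ := inv D.ψ ≫ y.map i ≫ D'.ψ
  have hχ : 𝒳.p.IsHomLift g χ := by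
    haveI : (FibCat.overCat T).p.IsHomLift (𝟙 V) i := IsHomLift.map (FibCat.overCat T).p i
    have h2 : 𝒳.p.IsHomLift (inv D.f) (inv D.ψ) := by
      exact IsHomLift.inv 𝒳.p D.f D.ψ
    haveI := homLift_comp' h2 (homLift_comp' (BasedFunctor.preserves_isHomLift y (𝟙 V) i) D'.hψ)
    exact homLift_congr (f := inv D.f ≫ 𝟙 V ≫ D'.f) (by simp [g]) _
  let kk : (Over.mk (D.k ≫ D.v.u) : Over U) ⟶ Over.mk D.v.u := Over.homMk D.k rfl
  haveI : IsIso kk.left := ‹IsIso D.k›
  haveI : IsIso ((Over.forget U).map kk) := ‹IsIso D.k›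
  haveI : IsIso kk := isIso_of_reflects_iso kk (Over.forget U)
  have hm : x.map (show Over.mk D.v.u ⟶ Over.mk D'.v.u from Over.homMk (covMap g hga) hu) ≫ D'.v.m =
      D.v.m ≫ χ := by
    rw [← cancel_epi (x.map kk), ← reassoc_of% (x.toFunctor.map_comp), ← cancel_epi (D.wit h𝒳).obj.iso.hom,
      reassoc_of% (D.wit_spec h𝒳)]
    have w : y.map Θ.hom.fst ≫ (D'.wit h𝒳).obj.iso.hom = (D.wit h𝒳).obj.iso.hom ≫ x.map Θ.hom.snd := Θ.hom.w
    have k2 : kk ≫ (show Over.mk D.v.u ⟶ Over.mk D'.v.u from Over.homMk (covMap g hga) hu) =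
        Θ.hom.snd ≫ (show Over.mk (D'.k ≫ D'.v.u) ⟶ Over.mk D'.v.u from Over.homMk D'.k rfl) :=
      Over.OverMorphism.ext (by rw [Over.comp_left, Over.comp_left, e₂]; exact ek)
    rw [k2, x.toFunctor.map_comp, Category.assoc, ← reassoc_of% w, D'.wit_spec h𝒳]
    simp only [χ, IsIso.hom_inv_id_assoc]
    rw [← Category.assoc, ← y.toFunctor.map_comp, ← Category.assoc, ← y.toFunctor.map_comp]
    congr 2
    exact Over.OverMorphism.ext (by rw [Over.comp_left, Over.comp_left, e₁]; simp [hc, ResPt.cg, pullback.map, i])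
  refine ⟨{ f := g, χ := χ, hχ := hχ, ha := hga, hu := hu, hm := hm }, by simp [g], es, ?_⟩
  simp [χ, i]

end Datum

section Surj

variable {V : Over S}

theorem exists_datum (h𝒳 : FibCat.IsFibGrpd 𝒳.p) (r : ResPt (rhoT ρ T) (slP ρ x y hW hs) V) :
    ∃ (o : (FibCat.fp y (secForget ρ x)).obj) (ho : o.obj.fst.left = V),
      clToRes ρ x y hW hs h𝒳 o ho = r := by
  obtain ⟨a', z, hz⟩ := r
  obtain ⟨w, hw, hwz⟩ := point_surj hW hs (z ≫ pullback.fst _ _)
  let s : V ⟶ T := a' ≫ fst T W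
  let a : V ⟶ W := a' ≫ snd T W
  -- the first component of the point is the projection
  have ht : eqToHom hw.symm ≫ w.obj.fst.hom = pullback.fst a' (rhoT ρ T) ≫ s := by
    have h1 := congrArg (· ≫ classTo hW hs (FibCat.fpFst y x)) hwz
    rw [point_classTo] at h1
    rw [Category.assoc, pullback.condition, ← Category.assoc, hz, ← Functor.map_comp] at h1
    refine ((yon S).map_injective h1).trans ?_
    exact (pullback.condition_assoc (f := a') (g := rhoT ρ T) (fst T W)).symm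
  let l : pullback a ρ ⟶ pullback a' (rhoT ρ T) :=
    pullback.lift (pullback.fst _ _)
      (pullback.lift (pullback.fst _ _ ≫ a') (pullback.snd _ _) (by
        simp [a, pullback.condition]))
      (by simp)
  let u : pullback a ρ ⟶ U := l ≫ eqToHom (hw.symm.trans ((@IsHomLift.codomain_eq _ _ _ _ 𝒳.p _ _ _ _ _ _
    w.property).symm.trans (x.w_obj w.obj.snd))) ≫ w.obj.snd.hom
  have hsnd : w.obj.snd.left = pullback a' (rhoT ρ T) :=
    ((x.w_obj w.obj.snd).symm.trans (@IsHomLift.codomain_eq _ _ _ _ 𝒳.p _ _ _ _ _ _ w.property)).trans hw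
  have hfst : w.obj.fst.left = pullback a' (rhoT ρ T) := hw
  let k₂ : Over.mk u ⟶ w.obj.snd := Over.homMk (l ≫ eqToHom hsnd.symm) (by simp [u])
  let k₁ : w.obj.fst ⟶ Over.mk s := Over.homMk (eqToHom hfst ≫ pullback.fst _ _) (by
    show (eqToHom hfst ≫ _) ≫ s = _
    rw [Category.assoc, ← ht, eqToHom_trans_assoc]
    exact Category.id_comp _)
  haveI hi : 𝒳.p.IsHomLift (eqToHom (hfst.trans hsnd.symm)) w.obj.iso.hom := by
    have h0 : 𝒳.p.IsHomLift (𝟙 w.obj.fst.left) w.obj.iso.hom := w.property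
    haveI := (IsHomLift.lift_comp_eqToHom_iff 𝒳.p (𝟙 w.obj.fst.left) w.obj.iso.hom (hfst.trans hsnd.symm)).2 h0
    exact homLift_congr (f := 𝟙 _ ≫ eqToHom (hfst.trans hsnd.symm)) (Category.id_comp _) _
  let m : x.obj (Over.mk u) ⟶ y.obj (Over.mk s) := x.map k₂ ≫ w.obj.iso.inv ≫ y.map k₁
  haveI : (FibCat.overCat U).p.IsHomLift (l ≫ eqToHom hsnd.symm) k₂ := IsHomLift.map (FibCat.overCat U).p k₂
  haveI : (FibCat.overCat T).p.IsHomLift (eqToHom hfst ≫ pullback.fst a' (rhoT ρ T)) k₁ :=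
    IsHomLift.map (FibCat.overCat T).p k₁
  have hm : 𝒳.p.IsHomLift (pullback.fst a ρ) m := by
    have hinv : 𝒳.p.IsHomLift (inv (eqToHom (hfst.trans hsnd.symm))) w.obj.iso.inv := by
      simpa using IsHomLift.inv 𝒳.p (eqToHom (hfst.trans hsnd.symm)) w.obj.iso.hom
    haveI := homLift_comp' (BasedFunctor.preserves_isHomLift x (l ≫ eqToHom hsnd.symm) k₂)
      (homLift_comp' hinv (BasedFunctor.preserves_isHomLift y (eqToHom hfst ≫ pullback.fst a' (rhoT ρ T)) k₁))
    exact homLift_congr (f := (l ≫ eqToHom hsnd.symm) ≫ inv (eqToHom (hfst.trans hsnd.symm)) ≫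
      eqToHom hfst ≫ pullback.fst a' (rhoT ρ T)) (by simp [l]) _
  let v : SecObj ρ x :=
    { ξ := y.obj (Over.mk s), base := V, hbase := y.w_obj (Over.mk s), a := a, u := u, m := m, hm := hm }
  let o : (FibCat.fp y (secForget ρ x)).obj :=
    ⟨{ fst := Over.mk s, snd := v, iso := Iso.refl _ }, IsHomLift.id (y.w_obj (Over.mk s))⟩
  refine ⟨o, rfl, ?_⟩
  have hpa : (datum o rfl).pa = a' := by
    apply CartesianMonoidalCategory.hom_ext <;> simp [SlDatum.pa, datum, o, v, s, a]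
  refine ResPt.ext' hpa ?_
  let D : SlDatum ρ x y V := datum o rfl
  show (D.toRes hW hs h𝒳).z = (yon S).map (ResPt.cg hpa) ≫ z
  refine pullback.hom_ext ?_ ?_
  swap
  · simp only [SlDatum.toRes, Category.assoc, pullback.lift_snd, hz, ← Functor.map_comp]
    exact congrArg _ (by simp [ResPt.cg, pullback.map, D])
  simp only [SlDatum.toRes, Category.assoc, pullback.lift_fst, ← hwz]
  let c : pullback D.pa (rhoT ρ T) ⟶ pullback a' (rhoT ρ T) := ResPt.cg hpa
  have ek : D.k ≫ l = c := by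
    apply pullback.hom_ext
    · simp [l, c, D, datum, o, v, ResPt.cg, pullback.map]
    · apply pullback.hom_ext
      · simp [l, c, D, datum, o, v, ResPt.cg, pullback.map]
        rw [← hpa]
        exact pullback.condition
      · simp [l, c, D, datum, o, v, ResPt.cg, pullback.map]
  have e1 : (c ≫ eqToHom hfst.symm) ≫ w.obj.fst.hom = pullback.fst D.pa (rhoT ρ T) ≫ D.s := by
    rw [Category.assoc, ht]
    simp [c, ResPt.cg, pullback.map, D, datum, o]
  have e3 : (c ≫ eqToHom hsnd.symm) ≫ w.obj.snd.hom = D.k ≫ D.v.u := by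
    rw [← ek, Category.assoc, Category.assoc]
    rfl
  let a₁ : (Over.mk (pullback.fst D.pa (rhoT ρ T) ≫ D.s) : Over T) ⟶ w.obj.fst :=
    Over.homMk (c ≫ eqToHom hfst.symm) e1
  let a₂ : (Over.mk (D.k ≫ D.v.u) : Over U) ⟶ w.obj.snd := Over.homMk (c ≫ eqToHom hsnd.symm) e3
  let kk : (Over.mk (D.k ≫ D.v.u) : Over U) ⟶ Over.mk D.v.u := Over.homMk D.k rfl
  haveI : IsIso c := ⟨ResPt.cg hpa.symm, by apply pullback.hom_ext <;> simp [c, ResPt.cg, pullback.map],
    by apply pullback.hom_ext <;> simp [c, ResPt.cg, pullback.map]⟩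
  have hwit : y.map a₁ ≫ w.obj.iso.hom = (D.wit h𝒳).obj.iso.hom ≫ x.map a₂ := by
    haveI : (FibCat.overCat U).p.IsHomLift (c ≫ eqToHom hsnd.symm) a₂ := IsHomLift.map (FibCat.overCat U).p a₂
    haveI : (FibCat.overCat T).p.IsHomLift (c ≫ eqToHom hfst.symm) a₁ := IsHomLift.map (FibCat.overCat T).p a₁
    have h1 : 𝒳.p.IsHomLift (𝟙 (pullback D.pa (rhoT ρ T))) (D.wit h𝒳).obj.iso.hom := (D.wit h𝒳).property
    haveI : 𝒳.p.IsHomLift (c ≫ eqToHom hsnd.symm) (y.map a₁ ≫ w.obj.iso.hom) := by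
      haveI := homLift_comp' (BasedFunctor.preserves_isHomLift y (c ≫ eqToHom hfst.symm) a₁) hi
      exact homLift_congr (f := (c ≫ eqToHom hfst.symm) ≫ eqToHom (hfst.trans hsnd.symm)) (by simp) _
    haveI : 𝒳.p.IsHomLift (c ≫ eqToHom hsnd.symm) ((D.wit h𝒳).obj.iso.hom ≫ x.map a₂) := by
      haveI := homLift_comp' h1 (BasedFunctor.preserves_isHomLift x (c ≫ eqToHom hsnd.symm) a₂)
      exact homLift_congr (Category.id_comp (c ≫ eqToHom hsnd.symm)) _
    haveI : 𝒳.p.IsHomLift (inv (eqToHom (hfst.trans hsnd.symm)) ≫ eqToHom hfst ≫ pullback.fst a' (rhoT ρ T))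
        (w.obj.iso.inv ≫ y.map k₁) :=
      homLift_comp' (show 𝒳.p.IsHomLift (inv (eqToHom (hfst.trans hsnd.symm))) w.obj.iso.inv by
          simpa using IsHomLift.inv 𝒳.p (eqToHom (hfst.trans hsnd.symm)) w.obj.iso.hom)
        (BasedFunctor.preserves_isHomLift y (eqToHom hfst ≫ pullback.fst a' (rhoT ρ T)) k₁)
    haveI := sc_of_fibGrpd h𝒳
      (inv (eqToHom (hfst.trans hsnd.symm)) ≫ eqToHom hfst ≫ pullback.fst a' (rhoT ρ T))
      (w.obj.iso.inv ≫ y.map k₁)
    refine IsStronglyCartesian.ext 𝒳.p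
      (inv (eqToHom (hfst.trans hsnd.symm)) ≫ eqToHom hfst ≫ pullback.fst a' (rhoT ρ T))
      (w.obj.iso.inv ≫ y.map k₁) (c ≫ eqToHom hsnd.symm) ?_
    rw [Category.assoc, Category.assoc, Iso.hom_inv_id_assoc]
    have k2 : a₂ ≫ 𝟙 _ = kk ≫ k₂ := Over.OverMorphism.ext (by
      rw [Over.comp_left, Over.comp_left, Over.id_left, Category.comp_id]
      show c ≫ eqToHom hsnd.symm = D.k ≫ l ≫ eqToHom hsnd.symm
      rw [reassoc_of% ek])
    rw [Category.comp_id] at k2
    rw [k2, x.toFunctor.map_comp, Category.assoc]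
    refine Eq.trans ?_ (D.wit_spec h𝒳).symm
    let f₁ : Over.mk (pullback.fst D.pa (rhoT ρ T) ≫ D.s) ⟶ Over.mk D.s := Over.homMk (pullback.fst _ _) rfl
    let i₀ : Over.mk D.s ⟶ Over.mk s := Over.homMk (𝟙 V) (by
      simp [D, datum, o])
    have e₁₀ : a₁ ≫ k₁ = f₁ ≫ i₀ := Over.OverMorphism.ext (by
      simp [a₁, k₁, f₁, i₀, c, ResPt.cg, pullback.map]
      all_goals exact Category.comp_id _)
    refine ((y.toFunctor.map_comp a₁ k₁).symm.trans ((congrArg y.toFunctor.map e₁₀).trans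
      ((y.toFunctor.map_comp f₁ i₀).trans (congrArg (y.map f₁ ≫ ·) ?_))))
    exact (Category.comp_id _).symm
  let Θ : D.wit h𝒳 ⟶ w := ObjectProperty.homMk { fst := a₁, snd := a₂, w := hwit }
  have hΘ : (FibCat.fp y x).p.IsHomLift c Θ := by
    haveI : (FibCat.fp y x).p.IsHomLift (c ≫ eqToHom hfst.symm) Θ := IsHomLift.map (FibCat.fp y x).p Θ
    haveI := (IsHomLift.lift_comp_eqToHom_iff (FibCat.fp y x).p (c ≫ eqToHom hfst.symm) Θ hfst).2 this
    exact homLift_congr (f := (c ≫ eqToHom hfst.symm) ≫ eqToHom hfst) (by simp) _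
  exact (map_point hW hs Θ c hΘ hw (D.wit_obj h𝒳)).symm

end Surj

/-- The slices of forgetting a section are sheaves of sections. -/
theorem exists_slice_equiv [IsFinite ρ.left] [Flat ρ.left] [LocallyOfFinitePresentation ρ.left]
    [Surjective ρ.left] (h𝒳 : Stk.IsStack (J S) 𝒳) :
    ∃ e : AlgSt.ofSp (resSp (rhoT ρ T) (slP ρ x y hW hs)) ⥤ᵇ FibCat.fp y (secForget ρ x),
      FibCat.IsEquivOver e ∧ Nonempty (BasedFunctor.comp e (FibCat.fpFst y (secForget ρ x)) ≅
        BasedFunctor.comp (AlgSt.ofSpMap (resToBase (rhoT ρ T) (slP ρ x y hW hs) ≫ (yon S).map (fst T W)))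
          (AlgSt.toOverCat T)) := by
  obtain ⟨hsd, hfa⟩ := secForget_faithful (ρ := ρ) (x := x) (isPrestack_of_isStack h𝒳)
  haveI := hfa
  let 𝒵 := FibCat.fp y (secForget ρ x)
  have hZs : FibCat.IsFibSetoid 𝒵.p :=
    fp_fibSetoid hsd.1 (isFibSetoid_of_rep (repByAlgSp_overCat T)) h𝒳.1 y (secForget ρ x)
  let app : ∀ V : (Over S)ᵒᵖ, (classPsh hZs.1).obj V → (resPsh (rhoT ρ T) (slP ρ x y hW hs)).obj V :=
    fun V => Quot.lift (fun o => clToRes ρ x y hW hs h𝒳.1 o.1 o.2) (by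
      rintro ⟨o, ho⟩ ⟨o', ho'⟩ ⟨e, he⟩
      have := clToRes_map ρ x y hW hs h𝒳.1 (𝟙 V.unop) e.hom he ho' ho
      rw [ResPt.map_id] at this
      exact this.symm)
  let ν : classPsh hZs.1 ⟶ resPsh (rhoT ρ T) (slP ρ x y hW hs) :=
    { app := fun V => ↾(app V)
      naturality := fun V V' g => by
        ext c
        obtain ⟨o, ho, rfl⟩ := clMk_surj c
        exact (clToRes_map ρ x y hW hs h𝒳.1 g.unop _ (liftHom_lift hZs.1 g.unop o ho) ho
          (liftObj_obj hZs.1 g.unop o ho)).symm }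
  have hb : ∀ V, Function.Bijective (app V) := by
    refine fun V => ⟨fun c c' h => ?_, fun r => ?_⟩
    · obtain ⟨o, ho, rfl⟩ := clMk_surj c
      obtain ⟨o', ho', rfl⟩ := clMk_surj c'
      haveI : IsIso (datum (ρ := ρ) (x := x) (y := y) o ho).f := by dsimp only [datum]; infer_instance
      obtain ⟨-, μ, hμf, es, hμψ⟩ := exists_iso_of_toRes_eq (hW := hW) (hs := hs) h𝒳.1 h
      have ho₁ : o.obj.fst.left = V.unop := ho
      have ho₁' : o'.obj.fst.left = V.unop := ho'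
      let j : o.obj.fst ⟶ o'.obj.fst := Over.homMk (eqToHom (ho₁.trans ho₁'.symm)) (by
        have : eqToHom ho₁.symm ≫ o.obj.fst.hom = eqToHom ho₁'.symm ≫ o'.obj.fst.hom := es
        rw [← cancel_epi (eqToHom ho₁.symm), this, eqToHom_trans_assoc])
      let i : Over.mk (eqToHom ho₁.symm ≫ o.obj.fst.hom) ⟶ o.obj.fst := Over.homMk (eqToHom ho₁.symm) rfl
      haveI : IsIso ((Over.forget T).map i) :=
        inferInstanceAs (IsIso (eqToHom ho₁.symm))
      haveI : IsIso i := isIso_of_reflects_iso i (Over.forget T)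
      have w : y.map j ≫ o'.obj.iso.hom = o.obj.iso.hom ≫ (secForget ρ x).map μ := by
        rw [← cancel_epi (y.map i)]
        refine Eq.trans ?_ (hμψ.trans (Category.assoc _ _ _))
        simp only [datum]
        rw [← Category.assoc, ← y.toFunctor.map_comp, ← Category.assoc, ← y.toFunctor.map_comp]
        congr 2
        exact Over.OverMorphism.ext (by
          show eqToHom ho₁.symm ≫ eqToHom (ho₁.trans ho₁'.symm) = 𝟙 V.unop ≫ eqToHom ho₁'.symm
          simp)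
      let M : o ⟶ o' := ObjectProperty.homMk { fst := j, snd := μ, w := w }
      haveI : IsIso (𝒵.p.map M) := by
        show IsIso (eqToHom (ho₁.trans ho₁'.symm) : o.obj.fst.left ⟶ o'.obj.fst.left)
        infer_instance
      haveI := isIso_of_map_isIso hZs.1 M
      refine Quot.sound ⟨asIso M, ?_⟩
      exact IsHomLift.of_fac' 𝒵.p (𝟙 V.unop) M ho ho' (by
        show eqToHom (ho₁.trans ho₁'.symm) = _
        simp)
    · obtain ⟨o, ho, e⟩ := exists_datum hW hs h𝒳.1 r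
      exact ⟨clMk o ho, e⟩
  haveI : ∀ V, IsIso (ν.app V) := fun V => (isIso_iff_bijective _).2 (hb V)
  haveI : IsIso ν := NatIso.isIso_of_isIso_app ν
  let E : 𝒵 ⥤ᵇ AlgSt.ofSp (resSp (rhoT ρ T) (slP ρ x y hW hs)) :=
    BasedFunctor.comp (classFun hZs.1) (Stk.ofPshMap ν)
  have hE : FibCat.IsEquivOver E :=
    isEquivOver_comp (classFun_isEquivOver hZs.1 hZs) (isEquivOver_ofPshMap ν)
  obtain ⟨d, ⟨i₁⟩, ⟨i₂⟩⟩ := id hE
  let σ := resToBase (rhoT ρ T) (slP ρ x y hW hs) ≫ (yon S).map (fst T W)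
  let R := BasedFunctor.comp E (BasedFunctor.comp (AlgSt.ofSpMap σ) (AlgSt.toOverCat T))
  let κ : ∀ o : 𝒵.obj, R.obj o ≅ o.obj.fst := fun o => Over.isoMk (Iso.refl _) (by
    change 𝟙 _ ≫ o.obj.fst.hom = lift (eqToHom rfl ≫ o.obj.fst.hom) _ ≫ fst T W
    rw [lift_fst]
    rfl)
  let k : R ≅ FibCat.fpFst y (secForget ρ x) := mkIso κ
    (fun {a b} m => Over.OverMorphism.ext (by
      show (m.hom.fst).left ≫ 𝟙 _ = 𝟙 _ ≫ (m.hom.fst).left
      rw [Category.comp_id, Category.id_comp]))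
    (fun o => IsHomLift.of_fac' (FibCat.overCat T).p _ _ rfl rfl (by simp [κ]; rfl))
  exact ⟨d, ⟨E, ⟨i₂⟩, ⟨i₁⟩⟩, ⟨(Stk.restr d _).mapIso k.symm ≪≫
    (post _ (BasedFunctor.comp (AlgSt.ofSpMap σ) (AlgSt.toOverCat T))).mapIso i₂⟩⟩

/-- Forgetting the section is representable by algebraic spaces. -/
theorem repByAlgSp1_secForget [IsFinite ρ.left] [Flat ρ.left] [LocallyOfFinitePresentation ρ.left]
    [Surjective ρ.left] (h𝒳 : Stk.IsStack (J S) 𝒳) (hx : AlgSt.RepByAlgSp1 x) :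
    AlgSt.RepByAlgSp1 (secForget ρ x) := by
  intro T y
  have hr := hx T y
  have hW := isStack_of_repByAlgSp hr
  have hs := isFibSetoid_of_rep hr
  have hκ := classFun_isEquivOver hW.1 hs
  obtain ⟨_, hC⟩ := repByAlgSp_ofPsh_iff.1 (repByAlgSp_of_equiv hκ hr)
  haveI : IsFinite (rhoT ρ T).left := MorphismProperty.of_isPullback
    ((IsPullback.of_hasPullback (snd T W) ρ).map (Over.forget S)).flip ‹IsFinite ρ.left›
  haveI : Flat (rhoT ρ T).left := MorphismProperty.of_isPullback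
    ((IsPullback.of_hasPullback (snd T W) ρ).map (Over.forget S)).flip ‹Flat ρ.left›
  haveI : LocallyOfFinitePresentation (rhoT ρ T).left := MorphismProperty.of_isPullback
    ((IsPullback.of_hasPullback (snd T W) ρ).map (Over.forget S)).flip
      ‹LocallyOfFinitePresentation ρ.left›
  have hY : IsAlgSpace (slY ρ x y hW hs) :=
    H12AlgSp.isAlgSpace_pullback (IsAlgSpace.yon_obj T).diag hC (IsAlgSpace.yon_obj _) _ _
  have hR := isAlgSpace_resSp (rhoT ρ T) hY (slP ρ x y hW hs)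
  obtain ⟨e, he, -⟩ := exists_slice_equiv (ρ := ρ) hW hs h𝒳
  exact ⟨⟨resSp (rhoT ρ T) (slP ρ x y hW hs), hR⟩, e, he⟩

end Groth.Agent.H14Artin
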