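import Groth.Agent.H14Artin.SectSlice
import Groth.Agent.H14AlgSt.AlgFp
import Groth.Agent.H14Quot.AutPoint

/-!
# Objects with sections of an fppf chart form an algebraic space
-/

set_option autoImplicit false
set_option backward.isDefEq.respectTransparency false
set_option backward.isDefEq.respectTransparency.types false
set_option linter.style.haveILetI false
universe u

open CategoryTheory CategoryTheory.Limits AlgebraicGeometry

namespace Groth.Agent.H14Artin

open H14Fib H14Stk H14AlgSt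

variable {S : Scheme.{u}} {Z W : Over S} (ρ : Z ⟶ W) {U : Over S} {𝒳 : AlgSt.Cat S}
  (x : FibCat.overCat U ⥤ᵇ 𝒳) [IsFinite ρ.left] [Flat ρ.left] [LocallyOfFinitePresentation ρ.left]
  [Surjective ρ.left]

/-- Objects with sections form a stack. -/
theorem isStack_secSt (h𝒳 : Stk.IsStack (AlgSp.J S) 𝒳) (hx : AlgSt.RepByAlgSp1 x) :
    Stk.IsStack (AlgSp.J S) (secSt ρ x) :=
  isStack_of_rep1 (secSt_fibGrpd h𝒳.1) h𝒳 (repByAlgSp1_secForget h𝒳 hx)

/-- Objects with sections of an fppf chart form an algebraic space. -/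
theorem repByAlgSp_secSt (h𝒳 : Stk.IsStack (AlgSp.J S) 𝒳)
    (hxs : AlgSt.RepByAlgSpWith AlgSp.IsSurjectiveMor x)
    (hxf : AlgSt.RepByAlgSpWith (AlgSp.LocP @Flat) x)
    (hxp : AlgSt.RepByAlgSpWith (AlgSp.LocP @LocallyOfFinitePresentation) x) :
    AlgSt.RepByAlgSp (secSt ρ x) := by
  have hx : AlgSt.RepByAlgSp1 x := repByAlgSp1_of_with hxs
  have hst := isStack_secSt ρ x h𝒳 hx
  have hs := (secForget_faithful (ρ := ρ) (x := x) (isPrestack_of_isStack h𝒳)).1
  let f := secForget ρ x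
  let b := FibCat.fpSnd x f
  let κ := classFun hst.1
  have hκ : FibCat.IsEquivOver κ := classFun_isEquivOver hst.1 hs
  let F : AlgSp.Sp S := H14Quot.classSp hst hs
  obtain ⟨I, E, hE⟩ : AlgSt.RepByAlgSp (FibCat.fp x f) :=
    repByAlgSp_fp hst.1 h𝒳.1 (repByAlgSp1_secForget h𝒳 hx) x (repByAlgSp_overCat U)
  let Φ : AlgSt.ofSp I.obj ⥤ᵇ AlgSt.ofSp F := BasedFunctor.comp (BasedFunctor.comp E b) κ
  let π : I.obj ⟶ F := ObjectProperty.homMk (mapOfFun Φ)
  have key : ∀ P : MorphismProperty (AlgSp.Sp S), P.RespectsIso →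
      AlgSt.RepByAlgSpWith P x → AlgSp.RepBySpWith P π.hom := fun P hP h =>
    have := hP
    (repBySpWith_iff P π.hom).2 (repWith_of_iso (isoOfPshMap Φ)
      ((repWith_comp_equiv_iff hκ).2 ((repWith_equiv_comp_iff hE).1 (repWith_fpSnd f h))))
  have := respectsIso_locP (S := S) @Flat
  have := respectsIso_locP (S := S) @LocallyOfFinitePresentation
  have := respectsIso_surjective (S := S)
  have g1 := (AlgSp.repBySpWith_hom_iff _ π).1 (key _ inferInstance hxs)
  have g2 := (AlgSp.repBySpWith_hom_iff _ π).1 (key _ inferInstance hxf)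
  have g3 := (AlgSp.repBySpWith_hom_iff _ π).1 (key _ inferInstance hxp)
  have hF : AlgSp.IsAlgSpace F :=
    H12AlgSp.isAlgSpace_of_repBySp_fppf I.property π fun V ξ F' fst snd sq =>
      ⟨(g1 ξ fst snd sq).1, (g1 ξ fst snd sq).2, (g2 ξ fst snd sq).2, (g3 ξ fst snd sq).2⟩
  exact repByAlgSp_of_equiv' hκ ⟨⟨F, hF⟩, BasedFunctor.id _, isEquivOver_id _⟩

end Groth.Agent.H14Artin
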