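import Groth.Agent.H14Artin.SmoothLocus

/-!
# The open of an algebraic stack on which a representable map to a stack is smooth
-/

set_option autoImplicit false
set_option backward.isDefEq.respectTransparency false
set_option backward.isDefEq.respectTransparency.types false
universe u

open CategoryTheory CategoryTheory.Functor Opposite AlgebraicGeometry CategoryTheory.Limits

noncomputable section

namespace Groth.Agent.H14Artin

open H14Fib H14Stk H14AlgSt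

variable {S : Scheme.{u}} {𝒳 𝒴 : AlgSt.Cat S} {f : 𝒳 ⥤ᵇ 𝒴} {Y : AlgSp.Space S}
  {v : AlgSt.ofSp Y.obj ⥤ᵇ 𝒴}

local notation "K₀" => Scheme.fppfPrecoverage
local notation "Psm" => (AlgSp.LocP @Smooth : MorphismProperty (AlgSp.Sp S))

/-- The set of smooth points is saturated. -/
lemma preimage_projSet (h𝒳 : AlgSt.IsAlgStack K₀ 𝒳) (h𝒴 : Stk.IsStack (AlgSp.J S) 𝒴)
    (hf : AlgSt.RepByAlgSpWith ⊤ f) (hvf : AlgSt.RepByAlgSpWith (AlgSp.LocP @Flat) v)
    (hvp : AlgSt.RepByAlgSpWith (AlgSp.LocP @LocallyOfFinitePresentation) v)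
    {O : Set (AlgSt.Points (FibCat.fp v f))} (hO : LSet Psm f v (BasedFunctor.id _) O) :
    AlgSt.Points.map (FibCat.fpSnd v f) ⁻¹' projSet v f O = O := by
  refine Set.Subset.antisymm ?_ (Set.subset_preimage_image _ _)
  rintro t' ⟨t, ht, e⟩
  let π := FibCat.fpSnd v f
  have hY := (isAlgStack_ofSp Y).isStack.1
  have hP := fp_fibGrpd (F := v) (G := f) hY h𝒳.isStack.1 h𝒴.1
  obtain ⟨R₀, eR, heR⟩ := repByAlgSp_fp hY h𝒴.1 (repByAlgSp1_of_with hvf) v
    (repByAlgSp_ofSp Y)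
  let pr₁ : R₀.obj ⟶ Y.obj :=
    ObjectProperty.homMk (mapOfFun (BasedFunctor.comp eR (FibCat.fpFst v v)))
  let pr₂ : R₀.obj ⟶ Y.obj :=
    ObjectProperty.homMk (mapOfFun (BasedFunctor.comp eR (FibCat.fpSnd v v)))
  let i₁ : BasedFunctor.comp (AlgSt.ofSpMap pr₁) (BasedFunctor.id _) ≅
      BasedFunctor.comp eR (FibCat.fpFst v v) := (isoOfPshMap _).symm
  let i₂ : BasedFunctor.comp (AlgSt.ofSpMap pr₂) (BasedFunctor.id _) ≅
      BasedFunctor.comp eR (FibCat.fpSnd v v) := (isoOfPshMap _).symm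
  have key : ∀ {T : MorphismProperty Scheme.{u}} {p : R₀.obj ⟶ Y.obj}
      {φ : FibCat.fp v v ⥤ᵇ AlgSt.ofSp Y.obj}, T.RespectsIso → AlgSt.RepByAlgSpWith (AlgSp.LocP T) φ →
      (AlgSt.ofSpMap p ≅ BasedFunctor.comp eR φ) → AlgSp.LocP T p := fun {T p φ} hT hφ a =>
    haveI := hT
    prop_of_repWith_ofSpMap (sourceIsoInv_locP _) (testOnSchemes_locP _) R₀.property Y.property
      (repWith_of_iso a.symm ((repWith_equiv_comp_iff heR).1 hφ))
  have h₁ : (AlgSp.LocP @Flat ⊓ AlgSp.LocP @LocallyOfFinitePresentation :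
      MorphismProperty (AlgSp.Sp S)) pr₁ :=
    ⟨key inferInstance (repWith_fpFst v hvf) i₁, key inferInstance (repWith_fpFst v hvp) i₁⟩
  have h₂ : (AlgSp.LocP @Flat ⊓ AlgSp.LocP @LocallyOfFinitePresentation :
      MorphismProperty (AlgSp.Sp S)) pr₂ :=
    ⟨key inferInstance (repWith_fpSnd v hvf) i₂, key inferInstance (repWith_fpSnd v hvp) i₂⟩
  let y₂ := BasedFunctor.comp (FibCat.fpFst v v) v
  let l₂ : BasedFunctor.comp (FibCat.fpSnd v v) v ≅ y₂ := (FibCat.fpIso v v).symm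
  have hO₁ := largestHyps_smooth.lset_baseChange h𝒳.isStack.1 h𝒴.1 hf (isEquivOver_id _) hO heR h₁
    (FibCat.fpFst v v) i₁ (y' := y₂) (Iso.refl _)
  have hO₂ := largestHyps_smooth.lset_baseChange h𝒳.isStack.1 h𝒴.1 hf (isEquivOver_id _) hO heR h₂
    (FibCat.fpSnd v v) i₂ (y' := y₂) l₂
  have heq := largestHyps_smooth.lset_unique h𝒳.isStack.1 h𝒴.1 hf heR hO₁ hO₂
  obtain ⟨w₀, hw₁, hw₂⟩ := exists_points_fp hP hP h𝒳.isStack.1 (F := π) (G := π) e
  let q₁ := FibCat.fpFst π π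
  let q₂ := FibCat.fpSnd π π
  let a₁ := BasedFunctor.comp q₁ (FibCat.fpFst v f)
  let a₂ := BasedFunctor.comp q₂ (FibCat.fpFst v f)
  let Ψ : FibCat.fp π π ⥤ᵇ FibCat.fp v v := FibCat.fpLift (F := v) (G := v) a₁ a₂
    ((Stk.restr q₁ 𝒴).mapIso (FibCat.fpIso v f) ≪≫ (post _ f).mapIso (FibCat.fpIso π π) ≪≫
      (Stk.restr q₂ 𝒴).mapIso (FibCat.fpIso v f).symm)
  let Θ : FibCat.fp π π ⥤ᵇ FibCat.fp y₂ f := FibCat.fpLift (F := y₂) (G := f) Ψ
    (BasedFunctor.comp q₁ π) ((Stk.restr q₁ 𝒴).mapIso (FibCat.fpIso v f))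
  let Φ₁ : FibCat.fp y₂ f ⥤ᵇ FibCat.fp v f := fpMap (FibCat.fpFst v v) (BasedFunctor.id 𝒳)
    (BasedFunctor.id 𝒴) (Iso.refl y₂).symm (Iso.refl _)
  let Φ₂ : FibCat.fp y₂ f ⥤ᵇ FibCat.fp v f := fpMap (FibCat.fpSnd v v) (BasedFunctor.id 𝒳)
    (BasedFunctor.id 𝒴) l₂.symm (Iso.refl _)
  let J₁ : BasedFunctor.comp Θ Φ₁ ≅ q₁ :=
    mkIso (fun p => fpIsoMk (Iso.refl _) (Iso.refl _) (by
        change v.map (𝟙 _) ≫ p.obj.fst.obj.iso.hom =
          (𝟙 _ ≫ p.obj.fst.obj.iso.hom ≫ 𝟙 _) ≫ f.map (𝟙 _)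
        erw [v.toFunctor.map_id, f.toFunctor.map_id]
        simp))
      (fun {p q} m => fp_hom_ext ((Category.comp_id _).trans (Category.id_comp _).symm)
        ((Category.comp_id _).trans (Category.id_comp _).symm))
      (fun p => (fp_isHomLift_iff _ _).2 (IsHomLift.id rfl))
  let J₂ : BasedFunctor.comp Θ Φ₂ ≅ q₂ :=
    mkIso (fun p => fpIsoMk (Iso.refl _) p.obj.iso (by
        change v.map (𝟙 _) ≫ p.obj.snd.obj.iso.hom =
          (((p.obj.snd.obj.iso.hom ≫ f.map p.obj.iso.inv) ≫ p.obj.fst.obj.iso.inv) ≫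
            p.obj.fst.obj.iso.hom ≫ 𝟙 _) ≫ f.map p.obj.iso.hom
        erw [v.toFunctor.map_id]
        simp [← Functor.map_comp]))
      (fun {p q} m => fp_hom_ext ((Category.comp_id _).trans (Category.id_comp _).symm) m.hom.w)
      (fun p => (fp_isHomLift_iff _ _).2 (IsHomLift.id (fp_snd_obj p)))
  have hm₁ : AlgSt.Points.map Φ₁ (AlgSt.Points.map Θ w₀) = t := by
    rw [← points_map_comp, points_map_iso J₁]
    exact hw₁
  have hm₂ : AlgSt.Points.map Φ₂ (AlgSt.Points.map Θ w₀) = t' := by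
    rw [← points_map_comp, points_map_iso J₂]
    exact hw₂
  have : AlgSt.Points.map Θ w₀ ∈ AlgSt.Points.map Φ₂ ⁻¹' O :=
    (Set.ext_iff.1 heq _).1 (show AlgSt.Points.map Φ₁ (AlgSt.Points.map Θ w₀) ∈ O from hm₁ ▸ ht)
  exact hm₂ ▸ (this : AlgSt.Points.map Φ₂ (AlgSt.Points.map Θ w₀) ∈ O)

lemma isOpen_projSet (h𝒳 : AlgSt.IsAlgStack K₀ 𝒳) (h𝒴 : Stk.IsStack (AlgSp.J S) 𝒴)
    (hf : AlgSt.RepByAlgSpWith ⊤ f) (hvf : AlgSt.RepByAlgSpWith (AlgSp.LocP @Flat) v)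
    (hvp : AlgSt.RepByAlgSpWith (AlgSp.LocP @LocallyOfFinitePresentation) v)
    {O : Set (AlgSt.Points (FibCat.fp v f))} (hO : LSet Psm f v (BasedFunctor.id _) O) :
    IsOpen (projSet v f O) := by
  obtain ⟨G, e, σ, he, ⟨k⟩⟩ := exists_chart h𝒳.isStack.1 h𝒴.1 (repByAlgSp1_of_with hf) v
    (isEquivOver_id _)
  obtain ⟨W, hW, w, hw⟩ := largestHyps_smooth.exists_largest σ G.property Y.property
    (prop_of_chart largestHyps_smooth.hQb.sourceIsoInv (testOnSchemes_of_localFppf largestHyps_smooth.hQ) (isEquivOver_id _) hf he k)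
  obtain ⟨A, p, hpe, hps⟩ := G.property.atlas
  have hG := isAlgStack_ofSp G
  have hp : AlgSt.RepByAlgSpWith (AlgSp.LocP @Smooth) (AlgSt.ofSpMap p) := by
    have := respectsIso_locP (S := S) @Smooth
    exact repWith_ofSpMap_of_baseStable (baseStable_locP H12AlgSp.etLocal_smooth)
      (AlgSp.IsAlgSpace.yon_obj A) G.property p
      (H12AlgSp.locP_of_repWith H12AlgSp.etLocal_smooth (H12AlgSp.repWith_le
        (fun _ _ g (_ : Etale g) => (inferInstance : Smooth g)) hpe))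
  let π := FibCat.fpSnd v f
  let c := BasedFunctor.comp (AlgSt.ofOverCat A) (AlgSt.ofSpMap p)
  let X₀ := BasedFunctor.comp c (BasedFunctor.comp e π)
  have hc : AlgSt.RepByAlgSpWith (AlgSp.LocP @Smooth) c :=
    (repWith_equiv_comp_iff (ofOverCat_isEquivOver A)).1 hp
  have hX₀ : AlgSt.RepByAlgSpWith (AlgSp.LocP @Flat) X₀ :=
    repWith_locP_comp H12AlgSp.etLocal_flat (fibGrpd_overCat _) hG.isStack.1
      (repWith_locP_mono smooth_le_flat hc) ((repWith_equiv_comp_iff he).1 (repWith_fpSnd f hvf))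
  have hX₁ : AlgSt.RepByAlgSpWith (AlgSp.LocP @LocallyOfFinitePresentation) X₀ :=
    repWith_locP_comp H12AlgSp.etLocal_lfp (fibGrpd_overCat _) hG.isStack.1
      (repWith_locP_mono smooth_le_lfp hc) ((repWith_equiv_comp_iff he).1 (repWith_fpSnd f hvp))
  have hpt : ∀ a : A.left, AlgSt.Points.ofChart X₀ a =
      AlgSt.Points.map π (chartPts e (AlgSp.Points.ofPt p a)) := fun a => by
    rw [ofChart_comp, ← spEquiv_ofPt, points_map_comp]
    rfl
  have hset : projSet v f O = AlgSt.Points.ofChart X₀ ''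
      (AlgSp.Points.ofPt p ⁻¹' Set.range (AlgSp.Points.map w)) := by
    rw [projSet, ← hO G e σ he ⟨k⟩ W w hW hw]
    ext q
    constructor
    · rintro ⟨_, ⟨x, hx, rfl⟩, rfl⟩
      obtain ⟨r, rfl⟩ := H12AlgSp.surjective_map_of_repWith le_rfl hps x
      obtain ⟨a, rfl⟩ := (AlgSp.Points.schemeEquiv A).surjective r
      have hr : AlgSp.Points.ofPt p a = AlgSp.Points.map p (AlgSp.Points.ofScheme A a) :=
        AlgSp.Points.ofPt_eq_map_ofScheme _ _
      exact ⟨a, Set.mem_preimage.2 (hr ▸ hx), (hpt a).trans (by rw [hr]; rfl)⟩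
    · rintro ⟨a, ha, rfl⟩
      exact ⟨_, ⟨_, ha, rfl⟩, (hpt a).symm⟩
  rw [hset]
  refine isOpenMap_ofChart h𝒳.isStack.1 hX₀ hX₁ _ ?_
  obtain ⟨V, b, c', sq⟩ := hw.1.rep p
  have : IsOpenImmersion b.left := hw.1.property _ c' b sq
  rw [H12AlgSp.preimage_ofPt_range sq]
  exact b.left.isOpenEmbedding.isOpen_range

/-- The open of an algebraic stack on which a representable map to a stack with an fppf chart is
smooth. -/
theorem exists_smooth_open (h𝒳 : AlgSt.IsAlgStack K₀ 𝒳) (h𝒴 : Stk.IsStack (AlgSp.J S) 𝒴)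
    (hf : AlgSt.RepByAlgSpWith ⊤ f) (hvf : AlgSt.RepByAlgSpWith (AlgSp.LocP @Flat) v)
    (hvp : AlgSt.RepByAlgSpWith (AlgSp.LocP @LocallyOfFinitePresentation) v)
    (hvs : AlgSt.RepByAlgSpWith AlgSp.IsSurjectiveMor v)
    {O : Set (AlgSt.Points (FibCat.fp v f))} (hO : LSet Psm f v (BasedFunctor.id _) O) :
    AlgSt.IsOpenSubstack 𝒳 (ptPred (projSet v f O)) K₀ ∧
      AlgSt.RepByAlgSpWith Psm
        (BasedFunctor.comp (AlgSt.subIncl 𝒳 (ptPred (projSet v f O))) f) := by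
  have hQs := isOpenSubstack_ptPred h𝒳 (isOpen_projSet h𝒳 h𝒴 hf hvf hvp hO)
  obtain ⟨G, e, σ, he, ⟨k⟩⟩ := exists_chart h𝒳.isStack.1 h𝒴.1 (repByAlgSp1_of_with hf) v
    (isEquivOver_id _)
  have hQσ := prop_of_chart largestHyps_smooth.hQb.sourceIsoInv
    (testOnSchemes_of_localFppf largestHyps_smooth.hQ) (isEquivOver_id _) hf he k
  obtain ⟨W, hW, w, hw⟩ := largestHyps_smooth.exists_largest σ G.property Y.property hQσ
  have hO' := hO G e σ he ⟨k⟩ W w hW hw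
  refine ⟨hQs, ?_⟩
  obtain ⟨G₀, j, e₀, hj, he₀, ⟨k₀⟩, hr⟩ := exists_chart_sub h𝒳 hQs he k
  rw [range_ptPred, preimage_projSet h𝒳 h𝒴 hf hvf hvp hO, ← hO'] at hr
  have hrange := ((chartPts_bijective he).1.image_injective hr)
  obtain ⟨m, hm⟩ := H12AlgSp.exists_factor_open hj w hrange.ge
  obtain ⟨m', hm'⟩ := H12AlgSp.exists_factor_open hw.1 j hrange.le
  have := H12AlgSp.mono_of_openImmersion hj
  have := H12AlgSp.mono_of_openImmersion hw.1
  have : IsIso m := ⟨m', by rw [← cancel_mono w, Category.assoc, hm', hm, Category.id_comp],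
    by rw [← cancel_mono j, Category.assoc, hm, hm', Category.id_comp]⟩
  have hiso : SourceIsoInv Psm := largestHyps_smooth.hPb.sourceIsoInv
  have hwj : Psm (m ≫ j ≫ σ) := by
    rw [← Category.assoc, hm]
    exact hw.2.1
  have hPj : Psm (j ≫ σ) := hiso m (j ≫ σ) hW Y.property hwj
  exact repWith_of_fppf largestHyps_smooth.hP largestHyps_smooth.hPb.sourceIsoInv
    (rep1_comp hQs.2.1.isStack.1 h𝒳.isStack.1 (repByAlgSp1_of_with hQs.2.2)
      (repByAlgSp1_of_with hf))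
    hvf hvp hvs
    (repWith_fpFst_of_space largestHyps_smooth.hPb he₀ k₀ hPj)

end Groth.Agent.H14Artin
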