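import Groth.Agent.H14Atlas.SmoothPoint

/-!
# Smooth points of the space of framed sections over the image of the source
-/

set_option autoImplicit false
set_option backward.isDefEq.respectTransparency false
set_option backward.isDefEq.respectTransparency.types false
set_option linter.style.haveILetI false
set_option maxHeartbeats 1000000
universe u

open CategoryTheory CategoryTheory.Limits AlgebraicGeometry Opposite IsLocalRing
open scoped TensorProduct

namespace Groth.Agent.H14Artin

open H14Atlas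

attribute [local irreducible] BMap

/-- A chart of an affine flat morphism over an affine open. -/
theorem exists_affine_model' {S : Scheme.{u}} {R : Type u} [CommRing R]
    (ι : Spec (CommRingCat.of R) ⟶ S) (G : Over S) [IsAffineHom G.hom] [Flat G.hom]
    [LocallyOfFinitePresentation G.hom] :
    ∃ (A : Type u) (_ : CommRing A) (_ : Algebra R A) (j : Spec (CommRingCat.of A) ⟶ G.left),
      IsPullback j (Spec.map (CommRingCat.ofHom (algebraMap R A))) G.hom ι ∧
        Algebra.FinitePresentation R A ∧ Module.Flat R A := by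
  haveI : IsAffineHom (pullback.snd G.hom ι) :=
    MorphismProperty.pullback_snd (P := @IsAffineHom) G.hom ι inferInstance
  haveI : IsAffine (pullback G.hom ι) := isAffine_of_isAffineHom (pullback.snd G.hom ι)
  let φ := Spec.preimage ((pullback G.hom ι).isoSpec.inv ≫ pullback.snd G.hom ι)
  letI : Algebra R Γ(pullback G.hom ι, ⊤) := φ.hom.toAlgebra
  have hφ : Spec.map (CommRingCat.ofHom (algebraMap R Γ(pullback G.hom ι, ⊤))) =
      (pullback G.hom ι).isoSpec.inv ≫ pullback.snd G.hom ι := Spec.map_preimage _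
  have sq : IsPullback ((pullback G.hom ι).isoSpec.inv ≫ pullback.fst G.hom ι)
      (Spec.map (CommRingCat.ofHom (algebraMap R Γ(pullback G.hom ι, ⊤)))) G.hom ι :=
    (IsPullback.of_hasPullback G.hom ι).of_iso (pullback G.hom ι).isoSpec (Iso.refl _) (Iso.refl _)
      (Iso.refl _) (by simp) (by simp [hφ]) (by simp) (by simp)
  refine ⟨Γ(pullback G.hom ι, ⊤), inferInstance, inferInstance, _, sq, ?_, ?_⟩
  · have h : LocallyOfFinitePresentation
        (Spec.map (CommRingCat.ofHom (algebraMap R Γ(pullback G.hom ι, ⊤)))) :=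
      MorphismProperty.of_isPullback sq inferInstance
    rw [HasRingHomProperty.Spec_iff (P := @LocallyOfFinitePresentation)] at h
    exact RingHom.finitePresentation_algebraMap.1 h
  · have h : Flat (Spec.map (CommRingCat.ofHom (algebraMap R Γ(pullback G.hom ι, ⊤)))) :=
      MorphismProperty.of_isPullback sq inferInstance
    rw [HasRingHomProperty.Spec_iff (P := @Flat)] at h
    exact RingHom.flat_algebraMap_iff.1 h

variable {S : Scheme.{u}} {G : Over S}

/-- A map of a field point into the space of framed sections. -/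
theorem exists_slice_point' {R A : Type u} [CommRing R] [CommRing A] [Algebra R A]
    [Algebra.FinitePresentation R A] (k : Type u) [Field k] [Algebra R k] [Nontrivial (k ⊗[R] A)] :
    ∃ (n : ULift.{u} ℕ) (_ : Algebra (FrameRing (FrameIdx n)) k)
      (_ : SMulCommClass (FrameRing (FrameIdx n)) R k) (θ : A →ₐ[R] BOf n k) (fs : List (k ⊗[R] A)),
      Function.Surjective (extZ (Q := k) θ) ∧
        RingHom.ker (extZ (Q := k) θ) = Ideal.ofList fs ∧
        ∀ i (_ : i < fs.length) (x : k ⊗[R] A), x * fs[i] ∈ Ideal.ofList (fs.take i) →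
          x ∈ Ideal.ofList (fs.take i) := by
  obtain ⟨fs, n, b, hreg⟩ := exists_framed_slice k (k ⊗[R] A)
  obtain ⟨ψ, hm, ho⟩ := exists_classify b
  letI : Algebra (FrameRing (FrameIdx n)) k := ψ.toAlgebra
  haveI := smulComm_alg (FrameRing (FrameIdx n)) R k
  obtain ⟨e, -⟩ := exists_equiv_of_law (C := k) b hm ho
  let q : k ⊗[R] A →ₐ[k] BOf n k := e.symm.toAlgHom.comp (Ideal.Quotient.mkₐ k (Ideal.ofList fs))
  let θ : A →ₐ[R] BOf n k := (q.restrictScalars R).comp Algebra.TensorProduct.includeRight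
  have hq : extZ (Q := k) θ = q := Algebra.TensorProduct.ext (Subsingleton.elim _ _)
    (AlgHom.ext fun a => by simp [extZ, θ])
  refine ⟨n, inferInstance, inferInstance, θ, fs, ?_, ?_, hreg⟩
  · rw [hq]
    exact e.symm.surjective.comp Ideal.Quotient.mk_surjective
  · rw [hq]
    ext x
    rw [RingHom.mem_ker]
    show e.symm (Ideal.Quotient.mk _ x) = 0 ↔ _
    rw [map_eq_zero_iff _ e.symm.injective, Ideal.Quotient.eq_zero_iff_mem]

/-- Every point of the image lifts to a smooth point. -/
theorem exists_smooth_point' [IsAffineHom G.hom] [Flat G.hom] [LocallyOfFinitePresentation G.hom]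
    (M : Res (frameRho S) G) [LocallyOfFinitePresentation M.obj.hom] (x : G.left) (s : S)
    (hx : G.hom x = s) : ∃ m ∈ M.obj.hom.smoothLocus, M.obj.hom m = s := by
  obtain ⟨_, ⟨U, hU : IsAffineOpen U, rfl⟩, hsU, -⟩ :=
    S.isBasis_affineOpens.exists_subset_of_mem_open (show s ∈ (⊤ : S.Opens) from trivial) isOpen_univ
  let R := Γ(S, U)
  let ι : Spec (CommRingCat.of R) ⟶ S := hU.fromSpec
  haveI : IsOpenImmersion ι := inferInstanceAs (IsOpenImmersion hU.fromSpec)
  obtain ⟨A, _, _, j, sq, _, _⟩ := exists_affine_model' ι G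
  let p := (hU.primeIdealOf ⟨s, hsU⟩).asIdeal
  let k := p.ResidueField
  haveI : Nontrivial (k ⊗[R] A) := by
    obtain ⟨y, -, hy⟩ := Scheme.exists_preimage_of_isPullback sq x (hU.primeIdealOf ⟨s, hsU⟩)
      (hx.trans (hU.fromSpec_primeIdealOf ⟨s, hsU⟩).symm)
    exact (PrimeSpectrum.nontrivial_iff_mem_rangeComap (R := R) (S := A) (hU.primeIdealOf ⟨s, hsU⟩)).2 ⟨y, hy⟩
  obtain ⟨n, _, _, θk, fk, h1, h2, h3⟩ := exists_slice_point' (R := R) (A := A) k
  let hk := pointOf ι n k sq M θk
  let pt : Spec (CommRingCat.of k) := ⟨⊥, Ideal.isPrime_bot⟩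
  let m : M.obj.left := hk.left pt
  have hms : M.obj.hom m = s := by
    rw [← Scheme.Hom.comp_apply, Over.w hk]
    show ι (PrimeSpectrum.comap (algebraMap R k) pt) = s
    rw [show PrimeSpectrum.comap (algebraMap R k) pt = hU.primeIdealOf ⟨s, hsU⟩ from
      PrimeSpectrum.ext (by
        ext r
        show algebraMap R k r ∈ (⊥ : Ideal k) ↔ _
        rw [Ideal.mem_bot, Ideal.algebraMap_residueField_eq_zero])]
    exact hU.fromSpec_primeIdealOf _
  let σ := Sigma.ι (fun d => Spec (CommRingCat.of (FrameRing (FrameIdx d)))) n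
  let coordM := M.base.left ≫ frameCoord S
  have hmσ : coordM m ∈ Set.range σ := by
    refine ⟨Spec.map (CommRingCat.ofHom (algebraMap (FrameRing (FrameIdx n)) k)) pt, ?_⟩
    have h := pointOf_coord ι n k sq M θk
    rw [Over.comp_left, Category.assoc] at h
    exact (congrArg (fun t : Spec (CommRingCat.of k) ⟶ frameBase.{u} => t pt) h).symm
  obtain ⟨_, ⟨V, hV : IsAffineOpen V, rfl⟩, hmV, hVle⟩ :=
    M.obj.left.isBasis_affineOpens.exists_subset_of_mem_open
      (show m ∈ (M.obj.hom ⁻¹ᵁ U) ⊓ (coordM ⁻¹ᵁ σ.opensRange) from ⟨show M.obj.hom m ∈ U by rw [hms]; exact hsU, hmσ⟩)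
      ((M.obj.hom ⁻¹ᵁ U) ⊓ (coordM ⁻¹ᵁ σ.opensRange)).isOpen
  have hVU : V ≤ M.obj.hom ⁻¹ᵁ U := fun x hx => (hVle hx).1
  let Q₀ := Γ(M.obj.left, V)
  letI : Algebra R Q₀ := (M.obj.hom.appLE U V hVU).hom.toAlgebra
  let v : Spec (CommRingCat.of Q₀) ⟶ M.obj.left := hV.fromSpec
  haveI : IsOpenImmersion v := inferInstanceAs (IsOpenImmersion hV.fromSpec)
  have hvR : v ≫ M.obj.hom = Spec.map (CommRingCat.ofHom (algebraMap R Q₀)) ≫ ι :=
    (IsAffineOpen.SpecMap_appLE_fromSpec M.obj.hom hU hV hVU).symm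
  have hvσ : Set.range (v ≫ coordM) ⊆ Set.range σ := by
    rintro _ ⟨x, rfl⟩
    exact (hVle (show v x ∈ V from hV.range_fromSpec.subset ⟨x, rfl⟩)).2
  obtain ⟨g, hg⟩ := Spec.map_surjective (IsOpenImmersion.lift σ (v ≫ coordM) hvσ)
  letI : Algebra (FrameRing (FrameIdx n)) Q₀ := g.hom.toAlgebra
  haveI := smulComm_alg (FrameRing (FrameIdx n)) R Q₀
  have hgσ : v ≫ coordM =
      Spec.map (CommRingCat.ofHom (algebraMap (FrameRing (FrameIdx n)) Q₀)) ≫ σ := by
    rw [show CommRingCat.ofHom (algebraMap (FrameRing (FrameIdx n)) Q₀) = g from rfl, hg,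
      IsOpenImmersion.lift_fac]
  let h₀ : testObj ι Q₀ ⟶ M.obj := Over.homMk v hvR
  obtain ⟨θ₀, hθ₀⟩ := exists_pointOf ι n Q₀ sq M h₀ (by
    rw [Over.comp_left, Category.assoc]; exact hgσ)
  have hv : (pointOf ι n Q₀ sq M θ₀).left = v := congrArg (fun t => t.left) hθ₀
  let 𝔮 := (hV.primeIdealOf ⟨m, hmV⟩).asIdeal
  -- the point over the field factors through the chart
  have hkrange : Set.range hk.left ⊆ Set.range v := by
    rintro _ ⟨x, rfl⟩
    obtain rfl : x = pt := @Subsingleton.elim (PrimeSpectrum k) inferInstance _ _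
    show _ ∈ Set.range hV.fromSpec
    rw [hV.range_fromSpec]
    exact hmV
  obtain ⟨c, hc⟩ := Spec.map_surjective (IsOpenImmersion.lift v hk.left hkrange)
  letI : Algebra Q₀ k := c.hom.toAlgebra
  have hcv : Spec.map (CommRingCat.ofHom (algebraMap Q₀ k)) ≫ v = hk.left := by
    rw [show CommRingCat.ofHom (algebraMap Q₀ k) = c from rfl, hc, IsOpenImmersion.lift_fac]
  haveI : IsScalarTower R Q₀ k := IsScalarTower.of_algebraMap_eq' (congrArg CommRingCat.Hom.hom
    (Spec.map_injective ((cancel_mono ι).1 (show Spec.map (CommRingCat.ofHom (algebraMap R k)) ≫ ι =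
        Spec.map (CommRingCat.ofHom (algebraMap R Q₀) ≫ CommRingCat.ofHom (algebraMap Q₀ k)) ≫ ι by
      rw [Spec.map_comp_assoc, ← hvR, reassoc_of% hcv]
      exact (Over.w hk).symm))))
  haveI : IsScalarTower (FrameRing (FrameIdx n)) Q₀ k := IsScalarTower.of_algebraMap_eq'
    (congrArg CommRingCat.Hom.hom (Spec.map_injective ((cancel_mono σ).1
      (show Spec.map (CommRingCat.ofHom (algebraMap (FrameRing (FrameIdx n)) k)) ≫ σ =
        Spec.map (CommRingCat.ofHom (algebraMap (FrameRing (FrameIdx n)) Q₀) ≫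
          CommRingCat.ofHom (algebraMap Q₀ k)) ≫ σ by
        rw [Spec.map_comp_assoc, ← hgσ, reassoc_of% hcv]
        have h := pointOf_coord ι n k sq M θk
        rw [Over.comp_left, Category.assoc] at h
        exact h.symm))))
  have hc𝔮 : RingHom.ker (algebraMap Q₀ k) = 𝔮 := by
    have h : Spec.map (CommRingCat.ofHom (algebraMap Q₀ k)) pt = hV.primeIdealOf ⟨m, hmV⟩ := by
      refine v.isOpenEmbedding.injective ?_
      rw [← Scheme.Hom.comp_apply, hcv]
      exact (hV.fromSpec_primeIdealOf ⟨m, hmV⟩).symm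
    have h2 : RingHom.ker (algebraMap Q₀ k) =
        (Spec.map (CommRingCat.ofHom (algebraMap Q₀ k)) pt).asIdeal := rfl
    rw [h2, h]
  let Q := Localization.AtPrime 𝔮
  haveI := smulComm_alg (FrameRing (FrameIdx n)) R Q
  have hu : ∀ t : 𝔮.primeCompl, IsUnit (algebraMap Q₀ k t) := fun t =>
    isUnit_iff_ne_zero.2 fun h0 => t.2 (hc𝔮.le (RingHom.mem_ker.2 h0))
  letI : Algebra Q k := (IsLocalization.lift (S := Q) hu).toAlgebra
  haveI : IsScalarTower Q₀ Q k := IsScalarTower.of_algebraMap_eq fun x => (IsLocalization.lift_eq hu x).symm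
  haveI : IsScalarTower R Q k := IsScalarTower.of_algebraMap_eq fun r => by
    rw [IsScalarTower.algebraMap_apply R Q₀ k, IsScalarTower.algebraMap_apply R Q₀ Q,
      ← IsScalarTower.algebraMap_apply Q₀ Q k]
  haveI : IsScalarTower (FrameRing (FrameIdx n)) Q k := IsScalarTower.of_algebraMap_eq fun r => by
    rw [IsScalarTower.algebraMap_apply (FrameRing (FrameIdx n)) Q₀ k,
      IsScalarTower.algebraMap_apply (FrameRing (FrameIdx n)) Q₀ Q,
      ← IsScalarTower.algebraMap_apply Q₀ Q k]
  have hker : RingHom.ker (algebraMap Q k) ≤ maximalIdeal Q := le_maximalIdeal (RingHom.ker_ne_top _)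
  have hsurj : Function.Surjective (algebraMap Q k) := by
    intro x
    obtain ⟨a, b, hb, rfl⟩ := IsFractionRing.div_surjective (A := R ⧸ p) x
    obtain ⟨a, rfl⟩ := Ideal.Quotient.mk_surjective a
    obtain ⟨b, rfl⟩ := Ideal.Quotient.mk_surjective b
    have hbk : algebraMap R k b ≠ 0 := by
      intro h0
      apply nonZeroDivisors.ne_zero hb
      rw [Ideal.Quotient.eq_zero_iff_mem]
      rwa [Ideal.algebraMap_residueField_eq_zero] at h0
    have hbu : IsUnit (algebraMap R Q b) := by
      by_contra h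
      apply hbk
      rw [IsScalarTower.algebraMap_apply R Q k]
      have hmem : algebraMap R Q b ∈ maximalIdeal Q := h
      obtain ⟨y, t, hyt⟩ := IsLocalization.exists_mk'_eq 𝔮.primeCompl (algebraMap R Q b)
      rw [← hyt, IsLocalization.AtPrime.mk'_mem_maximal_iff Q 𝔮] at hmem
      have h0 : algebraMap Q₀ k y = 0 := RingHom.mem_ker.1 (hc𝔮.ge hmem)
      have h5 : algebraMap Q k (IsLocalization.mk' Q y t) * algebraMap Q₀ k t = algebraMap Q₀ k y := by
        rw [IsScalarTower.algebraMap_apply Q₀ Q k, IsScalarTower.algebraMap_apply Q₀ Q k, ← map_mul,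
          IsLocalization.mk'_spec]
      rw [h0] at h5
      rw [← hyt]
      exact (mul_eq_zero.1 h5).resolve_right (hu t).ne_zero
    refine ⟨algebraMap R Q a * hbu.unit⁻¹.val, ?_⟩
    rw [map_mul, ← IsScalarTower.algebraMap_apply, eq_div_iff]
    · rw [mul_assoc, show algebraMap (R ⧸ p) k (Ideal.Quotient.mk p b) = algebraMap R k b from rfl,
        IsScalarTower.algebraMap_apply R Q k b, ← map_mul, hbu.val_inv_mul, map_one, mul_one]
      rfl
    · exact hbk
  have hθk : (BMap (R := R) n Q k).comp ((BMap (R := R) n Q₀ Q).comp θ₀) = θk := by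
    refine pointOf_injective ι n k sq M ?_
    rw [← testMap_pointOf, ← testMap_pointOf, hθ₀]
    refine Over.OverMorphism.ext ?_
    show Spec.map (CommRingCat.ofHom (algebraMap Q k)) ≫
      Spec.map (CommRingCat.ofHom (algebraMap Q₀ Q)) ≫ v = hk.left
    rw [← Spec.map_comp_assoc, ← CommRingCat.ofHom_comp, ← IsScalarTower.algebraMap_eq, hcv]
  rw [← hθk] at h1 h2
  obtain ⟨fs, c1, c2, c3, c4⟩ := slice_conditions n hsurj _ fk h1 h2 h3
  refine ⟨m, ?_, hms⟩
  rw [Scheme.Hom.mem_smoothLocus, formallySmooth_stalkMap_iff U hU V hV hVU hmV]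
  exact formallySmooth_atPrime ι n sq M v 𝔮 hv c1 fs c2 c3 c4

end Groth.Agent.H14Artin
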