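import Groth.Agent.H14Artin.SectSlice
import Groth.Agent.H14Artin.SectRes
import Groth.Agent.H14Artin.SmoothPoint
import Groth.Agent.H14AlgSt.AlgFp
import Groth.Agent.H14AlgSt.LocQ

/-!
# Smooth points in the sections over the source of a chart
-/

set_option autoImplicit false
set_option backward.isDefEq.respectTransparency false
set_option backward.isDefEq.respectTransparency.types false
set_option linter.style.haveILetI false
set_option maxHeartbeats 1000000
universe u

open CategoryTheory CategoryTheory.Limits CategoryTheory.Functor AlgebraicGeometry Opposite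
open MonoidalCategory CartesianMonoidalCategory
open AlgSp (Sp yon J IsAlgSpace RepWith)

namespace Groth.Agent.H14Artin

open H14Fib H14Stk H14AlgSt H14Quot
open H14Atlas (Res frameRho frameW frameZ frameBase)

-- keep one instance for pullbacks along the cover: mixing two is very slow to check
attribute [-instance] CategoryTheory.IsPullback.instHasPullbackFst

variable {S : Scheme.{u}}

/-- A property of a functor to a slice passes to the map of sheaves of classes. -/
theorem locP_classTo {P : MorphismProperty Scheme.{u}} [P.RespectsIso] {𝒟 : AlgSt.Cat S} {V : Over S}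
    (hD : Stk.IsStack (J S) 𝒟) (hs : FibCat.IsFibSetoid 𝒟.p) (hC : IsAlgSpace (classSp hD hs))
    (Φ : 𝒟 ⥤ᵇ FibCat.overCat V) (h : AlgSt.RepByAlgSpWith (AlgSp.LocP P) Φ) :
    AlgSp.LocP P (classTo hD hs Φ) := by
  let C : AlgSp.Space S := ⟨classSp hD hs, hC⟩
  let Yv : AlgSp.Space S := ⟨(yon S).obj V, IsAlgSpace.yon_obj V⟩
  let R : 𝒟 ⥤ᵇ FibCat.overCat V :=
    BasedFunctor.comp (classFun hD.1) (BasedFunctor.comp (AlgSt.ofSpMap (classTo hD hs Φ)) (AlgSt.toOverCat V))
  let κ : ∀ a : 𝒟.obj, R.obj a ≅ Φ.obj a := fun a => Over.isoMk (eqToIso (Φ.w_obj a).symm) (by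
    show eqToHom (Φ.w_obj a).symm ≫ (Φ.obj a).hom = toSlice Φ a rfl
    rfl)
  have hw : ∀ {a b : 𝒟.obj} (m : a ⟶ b),
      (Φ.map m).left = eqToHom (Φ.w_obj a) ≫ 𝒟.p.map m ≫ eqToHom (Φ.w_obj b).symm := fun m => by
    have := BasedFunctor.preserves_isHomLift Φ (𝒟.p.map m) m
    exact IsHomLift.fac' (FibCat.overCat V).p _ (Φ.map m)
  let k : R ≅ Φ := mkIso κ
    (fun {a b} m => Over.OverMorphism.ext (by
      show 𝒟.p.map m ≫ eqToHom (Φ.w_obj b).symm = eqToHom (Φ.w_obj a).symm ≫ (Φ.map m).left
      rw [hw]
      simp))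
    (fun a => IsHomLift.of_fac' (FibCat.overCat V).p _ _ rfl (Φ.w_obj a) (by simp [κ]; rfl))
  exact prop_of_repWith_ofSpMap (sourceIsoInv_locP _) (testOnSchemes_locP _) hC
    Yv.property ((repWith_comp_equiv_iff (toOverCat_isEquivOver V)).1
      ((repWith_equiv_comp_iff (classFun_isEquivOver hD.1 hs)).2 (repWith_of_iso k.symm h)))

variable {U : Over S} {𝒳 : AlgSt.Cat S} (x : FibCat.overCat U ⥤ᵇ 𝒳)
  (hW : Stk.IsStack (J S) (FibCat.fp x x)) (hs : FibCat.IsFibSetoid (FibCat.fp x x).p)

/-- Over every point of the source of a flat locally finitely presented chart lies a smooth point of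
an etale chart of its sections. -/
theorem exists_smooth_section_point [U.left.IsSeparated] (hC : IsAlgSpace (classSp hW hs))
    (hxf : AlgSt.RepByAlgSpWith (AlgSp.LocP @Flat) x)
    (hxp : AlgSt.RepByAlgSpWith (AlgSp.LocP @LocallyOfFinitePresentation) x) (u : U.left) :
    ∃ (M : Over S) (c : (yon S).obj M ⟶ resSp (rhoT (frameRho S) U) (slP (frameRho S) x x hW hs))
      (h : M ⟶ U) (_ : LocallyOfFinitePresentation h.left) (m : M.left), RepWith @Etale c ∧
        c ≫ resToBase (rhoT (frameRho S) U) (slP (frameRho S) x x hW hs) ≫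
            (yon S).map (fst U (frameW S)) = (yon S).map h ∧
        m ∈ h.left.smoothLocus ∧ h.left m = u := by
  let Φ₁ := FibCat.fpFst x x
  let cT := classTo hW hs Φ₁
  -- the diagonal section
  let o : (FibCat.fp x x).obj :=
    ⟨{ fst := Over.mk (𝟙 U), snd := Over.mk (𝟙 U), iso := Iso.refl _ },
      IsHomLift.id (x.w_obj (Over.mk (𝟙 U)))⟩
  have hdiag : point hW hs (T := U) o rfl ≫ cT = 𝟙 _ := by
    rw [point_classTo, ← CategoryTheory.Functor.map_id]
    congr 1
  obtain ⟨A, a, ha, has⟩ := hC.atlas
  obtain ⟨hA, hhA⟩ := (yon S).map_surjective (a ≫ cT)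
  obtain ⟨B, b₁, b₂, sqB⟩ := ha.rep (point hW hs (T := U) o rfl)
  obtain ⟨b₂, rfl⟩ := (yon S).map_surjective b₂
  haveI : Surjective b₁.left := has.property _ _ b₁ sqB
  obtain ⟨b, hb⟩ := b₁.left.surjective u
  have hb12 : b₂ ≫ hA = b₁ := (yon S).map_injective (by
    rw [Functor.map_comp, hhA, reassoc_of% sqB.w, hdiag, Category.comp_id])
  let a₀ := b₂.left b
  have ha₀ : hA.left a₀ = u := by rw [← hb, ← hb12]; rfl
  obtain ⟨_, ⟨V₀, hV₀ : IsAffineOpen V₀, rfl⟩, haV, -⟩ :=
    A.left.isBasis_affineOpens.exists_subset_of_mem_open (show a₀ ∈ (⊤ : A.left.Opens) from trivial) isOpen_univ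
  let V : Over S := Over.mk ((Scheme.Opens.ι V₀) ≫ A.hom)
  let jV : V ⟶ A := Over.homMk (Scheme.Opens.ι V₀) rfl
  let hV : V ⟶ U := jV ≫ hA
  haveI : IsAffine V.left := hV₀
  haveI : IsOpenImmersion jV.left := inferInstanceAs (IsOpenImmersion (Scheme.Opens.ι V₀))
  let aV := (yon S).map jV ≫ a
  have haV' : RepWith @Etale aV :=
    H12AlgSp.repWith_comp ((AlgSp.repWith_yon_map_iff @Etale jV).2 inferInstance) ha
  have hw : aV ≫ cT = (yon S).map hV ≫ 𝟙 _ := by
    rw [Category.assoc, ← hhA, ← Functor.map_comp, Category.comp_id]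
  have hid : RepWith @Etale (𝟙 ((yon S).obj U)) := AlgSp.repWith_id _ U
  haveI : Flat hV.left := (locP_classTo hW hs hC Φ₁ (repWith_fpFst x hxf)) aV (𝟙 _) hV haV' hid hw
  haveI : LocallyOfFinitePresentation hV.left :=
    (locP_classTo hW hs hC Φ₁ (repWith_fpFst x hxp)) aV (𝟙 _) hV haV' hid hw
  -- the chart of the sections
  let G : Over U.left := Over.mk hV.left
  haveI : IsAffineHom G.hom := by
    show IsAffineHom hV.left
    haveI : IsAffineHom (hV.left ≫ terminal.from U.left) := by
      rw [terminal.hom_ext (hV.left ≫ terminal.from U.left) (terminal.from V.left)]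
      infer_instance
    exact IsAffineHom.of_comp hV.left (terminal.from U.left)
  haveI : Flat G.hom := inferInstanceAs (Flat hV.left)
  haveI : LocallyOfFinitePresentation G.hom := inferInstanceAs (LocallyOfFinitePresentation hV.left)
  obtain ⟨M₀, -, hM₀⟩ := H14Atlas.exists_res (frameRho U.left) G
  haveI : LocallyOfFinitePresentation M₀.obj.hom := H14Atlas.lfp_res M₀ (hM₀ inferInstance)
  obtain ⟨m, hm, hmu⟩ := exists_smooth_point' M₀ (⟨a₀, haV⟩ : (Scheme.Opens.toScheme V₀)) u ha₀
  obtain ⟨eT, eZ, hg, heT⟩ := exists_frame_iso U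
  let ρ' := rhoT (frameRho S) U
  let P : Over S := pullback hV (zT (frameRho S) U)
  let q : P ⟶ pullback (snd U (frameW S)) (frameRho S) := pullback.snd _ _
  have sqP : IsPullback (pullback.fst hV (zT (frameRho S) U)).left q.left G.hom
      (eZ.hom ≫ (frameZ U.left).hom) := by
    have h := (IsPullback.of_hasPullback hV (zT (frameRho S) U)).map (Over.forget S)
    have e : (zT (frameRho S) U).left = eZ.hom ≫ (frameZ U.left).hom := by
      rw [← Over.w (frameRho U.left), ← reassoc_of% hg, heT]
      rfl
    simp only [Over.forget_map, e] at h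
    exact h
  let Φ₀ : SectRep ρ'.left q.left := sectRepOfRes M₀ ρ'.left q.left eT eZ hg _ sqP
  let Φ : OverSect ρ' q := OverSect.ofRep ρ' q Φ₀
  haveI : IsFinite ρ'.left := MorphismProperty.of_isPullback
    ((IsPullback.of_hasPullback (snd U (frameW S)) (frameRho S)).map (Over.forget S)).flip
      (inferInstance : IsFinite (frameRho S).left)
  haveI : Flat ρ'.left := MorphismProperty.of_isPullback
    ((IsPullback.of_hasPullback (snd U (frameW S)) (frameRho S)).map (Over.forget S)).flip
      (inferInstance : Flat (frameRho S).left)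
  haveI : LocallyOfFinitePresentation ρ'.left := MorphismProperty.of_isPullback
    ((IsPullback.of_hasPullback (snd U (frameW S)) (frameRho S)).map (Over.forget S)).flip
      (inferInstance : LocallyOfFinitePresentation (frameRho S).left)
  haveI : P.left.IsSeparated := by
    haveI : IsSeparated (terminal.from frameBase.{u}) := by
      rw [show terminal.from frameBase.{u} = Sigma.desc fun n : ULift.{u} ℕ =>
        terminal.from (Spec (CommRingCat.of (H14Atlas.FrameRing (H14Atlas.FrameIdx n)))) from
          terminal.hom_ext _ _]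
      exact H12AlgSp.isSeparated_sigmaDesc _ fun n => inferInstance
    haveI : IsSeparated (frameW S).hom :=
      inferInstanceAs (IsSeparated (pullback.fst (terminal.from S) (terminal.from frameBase.{u})))
    haveI : IsSeparated (fst U (frameW S)).left :=
      inferInstanceAs (IsSeparated (pullback.fst U.hom (frameW S).hom))
    haveI : IsSeparated ρ'.left := inferInstance
    haveI : IsSeparated (zT (frameRho S) U).left :=
      inferInstanceAs (IsSeparated (ρ'.left ≫ (fst U (frameW S)).left))
    haveI : IsSeparated (pullback.fst hV (zT (frameRho S) U)).left := MorphismProperty.of_isPullback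
      ((IsPullback.of_hasPullback hV (zT (frameRho S) U)).map (Over.forget S)).flip
        (show IsSeparated (zT (frameRho S) U).left from inferInstance)
    refine ⟨?_⟩
    rw [terminal.hom_ext (terminal.from P.left)
      ((pullback.fst hV (zT (frameRho S) U)).left ≫ terminal.from V.left)]
    infer_instance
  let Y := slY (frameRho S) x x hW hs
  let d : (yon S).obj P ⟶ Y := pullback.lift ((yon S).map (pullback.fst _ _) ≫ aV)
    ((yon S).map (pullback.snd _ _)) (by
      rw [Category.assoc, hw, Category.comp_id, ← Functor.map_comp, ← Functor.map_comp, pullback.condition])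
  have sqd : IsPullback d ((yon S).map (pullback.fst _ _)) (pullback.fst cT ((yon S).map (zT (frameRho S) U))) aV := by
    refine IsPullback.of_right ?_ (pullback.lift_fst _ _ _) (IsPullback.of_hasPullback cT _).flip
    have h := ((IsPullback.of_hasPullback hV (zT (frameRho S) U)).map (yon S)).flip
    rw [hw, Category.comp_id, show d ≫ pullback.snd _ _ = _ from pullback.lift_snd _ _ _]
    exact h
  have hd : RepWith @Etale d := H12AlgSp.repWith_of_isPullback sqd.flip haV'
  have hq : (yon S).map q = d ≫ slP (frameRho S) x x hW hs := (pullback.lift_snd _ _ _).symm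
  let c := chartMap ρ' (slP (frameRho S) x x hW hs) hq Φ
  have e : (Φ.r ≫ fst U (frameW S)).left = M₀.obj.hom := by
    show (M₀.base.left ≫ eT.inv) ≫ (fst U (frameW S)).left = _
    rw [← heT, Category.assoc, Iso.inv_hom_id_assoc, Over.w M₀.base]
  have hlfp : LocallyOfFinitePresentation (Φ.r ≫ fst U (frameW S)).left := by rw [e]; infer_instance
  refine ⟨Φ.R, c, Φ.r ≫ fst U (frameW S), hlfp, m,
    (repWith_chartMap ρ' (slP (frameRho S) x x hW hs) hq Φ hd).1, ?_, ?_⟩
  · rw [← Category.assoc, comp_resToBase, ← Functor.map_comp]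
    congr 2
    all_goals simp only [c, chartMap, Equiv.apply_symm_apply]
  · revert hlfp
    rw [e]
    intro _
    exact ⟨hm, hmu⟩

end Groth.Agent.H14Artin
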