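import Groth.Agent.H14Artin.SectSpace
import Groth.Agent.H14Artin.SmoothOpen
import Groth.Agent.H14Artin.SmoothSection

/-!
# A stack with a flat, locally finitely presented, surjective chart has a smooth atlas
-/

set_option autoImplicit false
set_option backward.isDefEq.respectTransparency false
set_option backward.isDefEq.respectTransparency.types false
set_option linter.style.haveILetI false
set_option maxHeartbeats 1000000
universe u

open CategoryTheory CategoryTheory.Limits CategoryTheory.Functor AlgebraicGeometry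
open MonoidalCategory CartesianMonoidalCategory

namespace Groth.Agent.H14Artin

open H14Fib H14Stk H14AlgSt H14Quot
open H14Atlas (frameRho frameW)

attribute [-instance] CategoryTheory.IsPullback.instHasPullbackFst

variable {S : Scheme.{u}} {𝒳 : AlgSt.Cat S}

local notation "K₀" => Scheme.fppfPrecoverage

/-- A stack with an fppf chart by a separated scheme has a smooth atlas. -/
theorem hasAtlas_smooth_of_sep_chart (h𝒳 : Stk.IsStack (AlgSp.J S) 𝒳) {U : Over S} [U.left.IsSeparated]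
    (x : FibCat.overCat U ⥤ᵇ 𝒳) (hxs : AlgSt.RepByAlgSpWith AlgSp.IsSurjectiveMor x)
    (hxf : AlgSt.RepByAlgSpWith (AlgSp.LocP @Flat) x)
    (hxp : AlgSt.RepByAlgSpWith (AlgSp.LocP @LocallyOfFinitePresentation) x) :
    AlgSt.HasAtlas (AlgSp.LocP @Smooth) 𝒳 := by
  let ρ := frameRho S
  let f := secForget ρ x
  have hx1 : AlgSt.RepByAlgSp1 x := repByAlgSp1_of_with hxs
  have hC : AlgSt.IsAlgStack K₀ (secSt ρ x) :=
    (isDM_of_repByAlgSp (repByAlgSp_secSt ρ x h𝒳 hxs hxf hxp)).1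
  have hf : AlgSt.RepByAlgSpWith ⊤ f := with_top_of_repByAlgSp1 (repByAlgSp1_secForget h𝒳 hx1)
  let Y : AlgSp.Space S := ⟨(AlgSp.yon S).obj U, AlgSp.IsAlgSpace.yon_obj U⟩
  let v : AlgSt.ofSp Y.obj ⥤ᵇ 𝒳 := BasedFunctor.comp (AlgSt.toOverCat U) x
  have hvs : AlgSt.RepByAlgSpWith AlgSp.IsSurjectiveMor v :=
    (repWith_equiv_comp_iff (toOverCat_isEquivOver U)).1 hxs
  have hvf : AlgSt.RepByAlgSpWith (AlgSp.LocP @Flat) v :=
    (repWith_equiv_comp_iff (toOverCat_isEquivOver U)).1 hxf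
  have hvp : AlgSt.RepByAlgSpWith (AlgSp.LocP @LocallyOfFinitePresentation) v :=
    (repWith_equiv_comp_iff (toOverCat_isEquivOver U)).1 hxp
  obtain ⟨O, hO⟩ := largestHyps_smooth.exists_lset (Y := Y) hC.isStack.1 h𝒳.1 hf v
    (eY := BasedFunctor.id _) (isEquivOver_id _)
  obtain ⟨hQ, hsm⟩ := exists_smooth_open (Y := Y) (v := v) hC h𝒳 hf hvf hvp hvs hO
  let 𝒬 := AlgSt.fullSub (secSt ρ x) (ptPred (projSet v f O))
  let i := AlgSt.subIncl (secSt ρ x) (ptPred (projSet v f O))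
  obtain ⟨A, w, hw, hws⟩ := hQ.2.1.atlas
  have hA := fibGrpd_overCat A
  let z := BasedFunctor.comp w (BasedFunctor.comp i f)
  have hz : AlgSt.RepByAlgSpWith (AlgSp.LocP @Smooth) z :=
    repWith_locP_comp H12AlgSp.etLocal_smooth hA hQ.2.1.isStack.1 hw hsm
  refine ⟨A, z, hz, repWith_surjective_of_points hA h𝒳.1 (repByAlgSp1_of_with hz) fun q => ?_⟩
  obtain ⟨t₀, rfl⟩ := surjective_of_repWith h𝒳.1 hvs q
  obtain ⟨t₁, rfl⟩ := (spEquiv Y.obj).surjective t₀
  obtain ⟨uu, rfl⟩ := (AlgSp.Points.schemeEquiv U).surjective t₁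
  have hr := hx1 U x
  have hW := isStack_of_repByAlgSp hr
  have hs := isFibSetoid_of_rep hr
  obtain ⟨_, hCl⟩ := repByAlgSp_ofPsh_iff.1 (repByAlgSp_of_equiv (classFun_isEquivOver hW.1 hs) hr)
  obtain ⟨M, c, h, hl, m, hce, hcσ, hm, hmu⟩ := exists_smooth_section_point x hW hs hCl hxf hxp uu
  obtain ⟨e₀, he₀, ⟨k₀⟩⟩ := exists_slice_equiv (ρ := ρ) (x := x) (y := x) hW hs h𝒳
  haveI : IsFinite (rhoT ρ U).left := MorphismProperty.of_isPullback
    ((IsPullback.of_hasPullback (snd U (frameW S)) ρ).map (Over.forget S)).flip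
      (inferInstance : IsFinite (frameRho S).left)
  haveI : Flat (rhoT ρ U).left := MorphismProperty.of_isPullback
    ((IsPullback.of_hasPullback (snd U (frameW S)) ρ).map (Over.forget S)).flip
      (inferInstance : Flat (frameRho S).left)
  haveI : LocallyOfFinitePresentation (rhoT ρ U).left := MorphismProperty.of_isPullback
    ((IsPullback.of_hasPullback (snd U (frameW S)) ρ).map (Over.forget S)).flip
      (inferInstance : LocallyOfFinitePresentation (frameRho S).left)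
  let G : AlgSp.Space S := ⟨resSp (rhoT ρ U) (slP ρ x x hW hs), isAlgSpace_resSp (rhoT ρ U)
    (H12AlgSp.isAlgSpace_pullback (AlgSp.IsAlgSpace.yon_obj U).diag hCl (AlgSp.IsAlgSpace.yon_obj _) _ _)
    (slP ρ x x hW hs)⟩
  let σ : G.obj ⟶ Y.obj :=
    resToBase (rhoT ρ U) (slP ρ x x hW hs) ≫ (AlgSp.yon S).map (fst U (frameW S))
  -- from the slice over the chart to the slice over its sheaf
  have : (AlgSt.ofOverCat U).toFunctor.Full := ((isEquivOver_iff _).1 (ofOverCat_isEquivOver U)).1.1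
  have : (AlgSt.ofOverCat U).toFunctor.Faithful := ((isEquivOver_iff _).1 (ofOverCat_isEquivOver U)).1.2
  have : (BasedFunctor.id (secSt ρ x)).toFunctor.Full := inferInstanceAs (𝟭 (secSt ρ x).obj).Full
  have : (BasedFunctor.id (secSt ρ x)).toFunctor.Faithful := inferInstanceAs (𝟭 (secSt ρ x).obj).Faithful
  have : (BasedFunctor.id 𝒳).toFunctor.Full := inferInstanceAs (𝟭 𝒳.obj).Full
  have : (BasedFunctor.id 𝒳).toFunctor.Faithful := inferInstanceAs (𝟭 𝒳.obj).Faithful
  let l : BasedFunctor.comp x (BasedFunctor.id 𝒳) ≅ BasedFunctor.comp (AlgSt.ofOverCat U) v :=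
    mkIso (fun s => Iso.refl (x.obj s))
      (fun {a b} g => (Category.comp_id _).trans (Category.id_comp _).symm)
      (fun s => IsHomLift.id (x.w_obj s))
  let E : FibCat.fp x f ⥤ᵇ FibCat.fp v f :=
    fpMap (AlgSt.ofOverCat U) (BasedFunctor.id (secSt ρ x)) (BasedFunctor.id 𝒳) l (Iso.refl _)
  have hE : FibCat.IsEquivOver E := fpMap_isEquivOver _ _ _ _ _
    ((isEquivOver_iff _).1 (ofOverCat_isEquivOver U)).2 (essSurjOver_id _)
  let e := BasedFunctor.comp e₀ E
  have he : FibCat.IsEquivOver e := isEquivOver_comp he₀ hE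
  let k : BasedFunctor.comp e (FibCat.fpFst v f) ≅
      BasedFunctor.comp (AlgSt.ofSpMap σ) (BasedFunctor.id _) :=
    (post _ (AlgSt.ofOverCat U)).mapIso k₀
  obtain ⟨W₀, hW₀, w₀, hw₀⟩ :=
    largestHyps_smooth.exists_largest σ G.property Y.property trivial
  have hO' := hO G e σ he ⟨k⟩ W₀ w₀ hW₀ hw₀
  let p : AlgSp.Points G.obj := AlgSp.Points.ofPt c m
  have hp : p ∈ Set.range (AlgSp.Points.map w₀) := by
    rw [range_of_isLargest G.property Y.property hW₀ hw₀]
    refine (H12AlgSp.nbhd_hasAtMor_iff H12AlgSp.etLocal_smooth hce (AlgSp.repWith_id _ U)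
      (by rw [Category.comp_id]; exact hcσ) m).2 ?_
    rwa [nbhd_smooth_iff, smoothPart_eq_smoothLocus]
  have hpO : chartPts (G := G) e p ∈ O := hO'.le ⟨p, hp, rfl⟩
  have hq : AlgSt.Points.map (FibCat.fpSnd v f) (chartPts e p) ∈
      Set.range (AlgSt.Points.map i) := range_ptPred.ge ⟨_, hpO, rfl⟩
  obtain ⟨q₁, hq₁⟩ := hq
  obtain ⟨r, rfl⟩ := surjective_of_repWith hQ.2.1.isStack.1 hws q₁
  refine ⟨r, ?_⟩
  rw [points_map_comp, points_map_comp, hq₁, ← points_map_comp,
    ← points_map_iso (FibCat.fpIso v f), points_map_comp, ← chartPts_comp, chartPts_iso k, chartPts_map]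
  have id' : ∀ a : AlgSt.Points (AlgSt.ofSp Y.obj),
      AlgSt.Points.map (BasedFunctor.id (AlgSt.ofSp Y.obj)) a = a := fun a => by
    obtain ⟨b, rfl⟩ := AlgSt.Points.mk_surjective a
    rfl
  refine congrArg (AlgSt.Points.map v) ((id' _).trans (congrArg (spEquiv Y.obj) ?_))
  refine (AlgSp.Points.map_ofPt c σ m).trans ?_
  rw [show c ≫ σ = (AlgSp.yon S).map h from hcσ, ← hmu, ← Category.comp_id ((AlgSp.yon S).map h),
    H12AlgSp.ofPt_map]
  rfl

/-- A stack with an fppf chart by a scheme has a smooth atlas. -/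
theorem hasAtlas_smooth_of_fppf_chart (h𝒳 : Stk.IsStack (AlgSp.J S) 𝒳) {U : Over S}
    (x : FibCat.overCat U ⥤ᵇ 𝒳) (hxs : AlgSt.RepByAlgSpWith AlgSp.IsSurjectiveMor x)
    (hxf : AlgSt.RepByAlgSpWith (AlgSp.LocP @Flat) x)
    (hxp : AlgSt.RepByAlgSpWith (AlgSp.LocP @LocallyOfFinitePresentation) x) :
    AlgSt.HasAtlas (AlgSp.LocP @Smooth) 𝒳 := by
  obtain ⟨P, d, hde, hds, hP, -⟩ := exists_affine_sigma U
  haveI := hP
  haveI := hde
  have hP' := fibGrpd_overCat P
  have hU' := fibGrpd_overCat U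
  refine hasAtlas_smooth_of_sep_chart h𝒳 (BasedFunctor.comp (AlgSt.overMap d) x) ?_ ?_ ?_
  · exact repWith_surjective_comp hP' hU' (repWith_overMap_surj d hds) hxs
  · exact repWith_locP_comp H12AlgSp.etLocal_flat hP' hU'
      (repWith_overMap H12AlgSp.etLocal_flat d (inferInstance : Flat d.left)) hxf
  · exact repWith_locP_comp H12AlgSp.etLocal_lfp hP' hU'
      (repWith_overMap H12AlgSp.etLocal_lfp d (inferInstance : LocallyOfFinitePresentation d.left)) hxp

/-- Artin's criterion: a stack with representable diagonal and an fppf chart is algebraic. -/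
theorem isAlgStack_of_fppf_chart (h𝒳 : Stk.IsStack (AlgSp.J S) 𝒳)
    (hΔ : AlgSt.RepByAlgSp1 (FibCat.diag (FibCat.toSelf 𝒳))) {U : Over S}
    (x : FibCat.overCat U ⥤ᵇ 𝒳) (hxs : AlgSt.RepByAlgSpWith AlgSp.IsSurjectiveMor x)
    (hxf : AlgSt.RepByAlgSpWith (AlgSp.LocP @Flat) x)
    (hxp : AlgSt.RepByAlgSpWith (AlgSp.LocP @LocallyOfFinitePresentation) x) :
    AlgSt.IsAlgStack K₀ 𝒳 :=
  ⟨h𝒳, hΔ, hasAtlas_smooth_of_fppf_chart h𝒳 x hxs hxf hxp⟩

end Groth.Agent.H14Artin
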