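import Groth.Agent.H14AlgSt.LargestPMain
import Groth.Agent.H12AlgSp.NbhdLoci

/-!
# The largest open subspace on which a morphism of algebraic spaces is smooth
-/

set_option autoImplicit false
set_option backward.isDefEq.respectTransparency false
set_option backward.isDefEq.respectTransparency.types false
set_option linter.style.haveILetI false
universe u

open CategoryTheory CategoryTheory.Limits AlgebraicGeometry
open AlgSp

namespace Groth.Agent.H14Artin

open H12AlgSp H14AlgSt

variable {S : Scheme.{u}}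

/-- The points where a morphism of algebraic spaces is smooth. -/
def smLocus {X Y : Sp S} (f : X ⟶ Y) : Set (Points X) :=
  {x | HasAtMor (nbhdProp @Smooth) f x}

theorem nbhd_smooth_iff {A B : Scheme.{u}} (h : A ⟶ B) (u : A) :
    nbhdProp @Smooth A B h u ↔ u ∈ smoothPart h := by
  constructor
  · rintro ⟨W, hu, hW⟩
    exact le_smoothPart h hW hu
  · exact fun hu => ⟨smoothPart h, hu, smooth_smoothPart h⟩

/-- A chart diagram of a base change, remembering the map of bases. -/
theorem exists_baseChange_chart_base {X Y Y' X' : Sp S} {f : X ⟶ Y} {g : Y' ⟶ Y} {fst : X' ⟶ X}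
    {f' : X' ⟶ Y'} (sq : IsPullback fst f' f g) (hX : IsAlgSpace X) (hY : IsAlgSpace Y)
    (hY' : IsAlgSpace Y') (x' : Points X') :
    ∃ (U V O T : Over S) (a : (yon S).obj U ⟶ X) (b : (yon S).obj V ⟶ Y) (h : U ⟶ V)
      (a' : (yon S).obj O ⟶ X') (b' : (yon S).obj T ⟶ Y') (m : O ⟶ U) (h' : O ⟶ T) (k : T ⟶ V)
      (o : O.left),
      RepWith @Etale a ∧ RepWith @Etale b ∧ a ≫ f = (yon S).map h ≫ b ∧
        RepWith @Etale a' ∧ RepWith @Etale b' ∧ a' ≫ f' = (yon S).map h' ≫ b' ∧
        b' ≫ g = (yon S).map k ≫ b ∧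
        IsPullback m.left h'.left h.left k.left ∧ Points.ofPt a' o = x' ∧
        Points.ofPt a (m.left o) = Points.map fst x' := by
  obtain ⟨V, q, hq, hqs⟩ := hY.atlas
  obtain ⟨U, p, hp, hps⟩ := (isAlgSpace_pullback hY.diag hX (IsAlgSpace.yon_obj V) f q).atlas
  obtain ⟨h, hh⟩ := (yon S).map_surjective (p ≫ pullback.snd f q)
  obtain ⟨V₀, b₀, hb₀, hb₀s⟩ := hY'.atlas
  obtain ⟨T, t, k, sqT⟩ := hq.rep (b₀ ≫ g)
  obtain ⟨k, rfl⟩ := (yon S).map_surjective k
  obtain ⟨b, hbdef⟩ : ∃ b : (yon S).obj T ⟶ Y', b = (yon S).map t ≫ b₀ := ⟨_, rfl⟩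
  have hb : RepWith @Etale b := hbdef ▸
    repWith_comp ((repWith_yon_map_iff _ _).2 (hq.property _ _ t sqT)) hb₀
  have hbs : RepWith @Surjective b := hbdef ▸
    repWith_comp ((repWith_yon_map_iff _ _).2 (hqs.property _ _ t sqT)) hb₀s
  have hkb : (yon S).map k ≫ q = b ≫ g := by simpa [hbdef] using sqT.w
  let n : pullback f' b ⟶ pullback f q :=
    pullback.lift (pullback.fst f' b ≫ fst) (pullback.snd f' b ≫ (yon S).map k) (by
      rw [Category.assoc, sq.w, pullback.condition_assoc, Category.assoc, hkb])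
  have hn : IsPullback n (pullback.snd f' b) (pullback.snd f q) ((yon S).map k) := by
    refine IsPullback.of_right ?_ (pullback.lift_snd _ _ _) (IsPullback.of_hasPullback f q)
    have := (IsPullback.of_hasPullback f' b).paste_horiz sq
    rw [← hkb] at this
    rwa [show n ≫ pullback.fst f q = pullback.fst f' b ≫ fst from pullback.lift_fst _ _ _]
  have sqO : IsPullback (pullback.fst h k) (pullback.snd h k) h k := IsPullback.of_hasPullback h k
  have sqY := sqO.map (yon S)
  obtain ⟨m, hm₁, hm₂⟩ := hn.exists_lift ((yon S).map (pullback.fst h k) ≫ p)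
    ((yon S).map (pullback.snd h k)) (by rw [Category.assoc, ← hh]; exact sqY.w)
  have sqm : IsPullback ((yon S).map (pullback.fst h k)) m p n := by
    refine IsPullback.of_bot ?_ hm₁.symm hn
    rw [hm₂, ← hh]
    exact sqY
  obtain ⟨o, ho⟩ := surjective_ofPt_of_repWith le_rfl (repWith_comp (repWith_of_isPullback sqm hps)
    (repWith_of_isPullback (IsPullback.of_hasPullback f' b).flip hbs)) x'
  refine ⟨U, V, pullback h k, T, p ≫ pullback.fst f q, q, h, m ≫ pullback.fst f' b, b,
    pullback.fst h k, pullback.snd h k, k, o,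
    repWith_comp hp (repWith_of_isPullback (IsPullback.of_hasPullback f q).flip hq), hq, ?_,
    repWith_comp (repWith_of_isPullback sqm hp)
      (repWith_of_isPullback (IsPullback.of_hasPullback f' b).flip hb), hb, ?_,
    hkb.symm, sqO.map (Over.forget S), ho, ?_⟩
  · rw [hh, Category.assoc, Category.assoc, pullback.condition]
  · rw [Category.assoc, pullback.condition, ← Category.assoc, hm₂]
  · rw [← ho, Points.map_ofPt, ← ofPt_map]
    congr 1
    rw [Category.assoc, ← Category.assoc, ← hm₁, Category.assoc]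
    exact congrArg (m ≫ ·) (pullback.lift_fst _ _ _)

/-- The smooth locus commutes with base change along flat morphisms locally of finite presentation. -/
theorem smLocus_baseChange {X Y Y' X' : Sp S} {f : X ⟶ Y} {g : Y' ⟶ Y} {fst : X' ⟶ X} {f' : X' ⟶ Y'}
    (sq : IsPullback fst f' f g) (hX : IsAlgSpace X) (hY : IsAlgSpace Y) (hY' : IsAlgSpace Y')
    (hg : LocP @Flat g) (hg' : LocP @LocallyOfFinitePresentation g) :
    smLocus f' = Points.map fst ⁻¹' smLocus f := by
  ext x'
  obtain ⟨U, V, O, T, a, b, h, a', b', m, h', k, o, ha, hb, w, ha', hb', w', wg, sqO, rfl, e⟩ :=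
    exists_baseChange_chart_base sq hX hY hY' x'
  have hlfp : LocallyOfFinitePresentation k.left := hg' b' b k hb' hb wg
  have hk : Flat k.left := hg b' b k hb' hb wg
  show HasAtMor _ f' _ ↔ HasAtMor _ f _
  rw [nbhd_hasAtMor_iff etLocal_smooth ha' hb' w', ← e, nbhd_hasAtMor_iff etLocal_smooth ha hb w,
    nbhd_smooth_iff, nbhd_smooth_iff, smoothPart_baseChange sqO hk (Or.inl hlfp)]
  rfl

/-- An open subspace on the smooth locus is the largest one. -/
theorem isLargest_of_range {X Y W : Sp S} (hX : IsAlgSpace X) (hY : IsAlgSpace Y) (hW : IsAlgSpace W)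
    (f : X ⟶ Y) (w : W ⟶ X) (hw : RepWith @IsOpenImmersion w)
    (hr : Set.range (Points.map w) = smLocus f) : IsLargest (LocP @Smooth) f w := by
  refine ⟨hw, (locP_iff_forall_nbhd etLocal_smooth hW hY _).2 fun z =>
    nbhd_comp_of_openImmersion etLocal_smooth hW hY hw (hr.le ⟨z, rfl⟩), fun W₁ hW₁ w₁ hw₁ h₁ => ?_⟩
  refine exists_factor_open hw w₁ ?_
  rintro _ ⟨z, rfl⟩
  exact hr.ge (nbhd_of_openImmersion_comp etLocal_smooth hw₁
    ((locP_iff_forall_nbhd etLocal_smooth hW₁ hY _).1 h₁ z))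

theorem exists_smooth_subspace {X Y : Sp S} (hX : IsAlgSpace X) (hY : IsAlgSpace Y) (f : X ⟶ Y) :
    ∃ (W : Sp S) (w : W ⟶ X), IsAlgSpace W ∧ IsLargest (LocP @Smooth) f w ∧
      Set.range (Points.map w) = smLocus f := by
  obtain ⟨W, w, hW, hw, hr⟩ := exists_open_subspace hX (isOpen_nbhdLocus (P := @Smooth) f)
  exact ⟨W, w, hW, isLargest_of_range hX hY hW f w hw hr, hr⟩

theorem range_of_isLargest {X Y W : Sp S} (hX : IsAlgSpace X) (hY : IsAlgSpace Y) (hW : IsAlgSpace W)
    {f : X ⟶ Y} {w : W ⟶ X} (h : IsLargest (LocP @Smooth) f w) :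
    Set.range (Points.map w) = smLocus f := by
  obtain ⟨W₀, w₀, hW₀, h₀, hr⟩ := exists_smooth_subspace hX hY f
  obtain ⟨k, hk⟩ := h.2.2 W₀ hW₀ w₀ h₀.1 h₀.2.1
  obtain ⟨l, hl⟩ := h₀.2.2 W hW w h.1 h.2.1
  exact ((range_map_subset_of_factor hl).trans hr.le).antisymm
    (hr.ge.trans (range_map_subset_of_factor hk))

/-- Smoothness is a property with largest opens compatible with flat base change. -/
theorem largestHyps_smooth :
    LargestHyps (S := S) (LocP @Smooth) ⊤ (LocP @Flat ⊓ LocP @LocallyOfFinitePresentation) where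
  hPb := baseStable_locP etLocal_smooth
  hQb := fun _ _ _ _ _ _ _ _ _ _ _ _ _ _ => trivial
  hP := localFppf_of_fpqc (Groth.Agent.S10542.result S)
  hQ := fun _ _ _ _ _ _ _ _ _ _ _ _ _ _ _ => iff_of_true trivial fun _ => trivial
  smooth := fun _ _ _ h => ⟨locP_mono smooth_le_flat h, locP_mono smooth_le_lfp h⟩
  exists_largest := fun {G Y} σ hG hY _ => by
    obtain ⟨W, w, hW, hl, -⟩ := exists_smooth_subspace hG hY σ
    exact ⟨W, hW, w, hl⟩
  baseChange := fun {G Y G' Y' W W'} hG hY hG' hY' hW hW' σ g σ' g' sq _ hg w hw w' k sq' => by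
    have ho : RepWith @IsOpenImmersion w' := repWith_of_isPullback sq' hw.1
    refine isLargest_of_range hG' hY' hW' σ' w' ho ?_
    rw [range_map_of_isPullback sq', range_of_isLargest hG hY hW hw,
      smLocus_baseChange sq hG hY hY' hg.1 hg.2]

end Groth.Agent.H14Artin
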